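import Mathlib
import Cfsg.Prelude.Def_EvenType
set_option linter.all false

/-!
# Strongly `p`-embedded subgroups (all primes `p`)

* `Ctrl p M` : `g x g⁻¹ ∈ M` implies `g ∈ M`, for all `x ∈ M` of order `p`.
* `stronglyP_of_ctrl` : a proper subgroup of order divisible by `p` with `Ctrl p M` is strongly `p`-embedded.
* `centralizer_le`, `normalizer_sylow_le` : consequences of strong `p`-embedding.
* `ctrl_of_centralizers` : `C_G(x) ≤ M` for all `x ∈ M` of order `p` and `N_G(S) ≤ M` for a Sylow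
  `p`-subgroup `S` of `M` imply `Ctrl p M`.
-/

set_option autoImplicit false

namespace Cfsg.Agent.H240.StrongP

open Cfsg Subgroup

variable {G : Type*} [Group G]

/-- `M` controls its elements of order `p`. -/
def Ctrl (p : ℕ) (M : Subgroup G) : Prop :=
  ∀ x ∈ M, orderOf x = p → ∀ g : G, g * x * g⁻¹ ∈ M → g ∈ M

theorem not_pRankLE_zero [Finite G] {p : ℕ} [hp : Fact p.Prime] {Q : Subgroup G} (hQ : IsPGroup p Q)
    (hne : Q ≠ ⊥) : ¬ PRankLE p 0 ↥Q := by
  intro h
  have hnt : Nontrivial Q := (Subgroup.nontrivial_iff_ne_bot Q).mpr hne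
  obtain ⟨x, hx⟩ : ∃ x : Q, orderOf x = p := by
    apply exists_prime_orderOf_dvd_card'
    obtain ⟨n, hn⟩ := IsPGroup.iff_card.mp hQ
    rw [hn]
    refine dvd_pow_self p ?_
    rintro rfl
    rw [pow_zero] at hn
    exact absurd hn (Finite.one_lt_card (α := Q)).ne'
  have h1 := h (Subgroup.zpowers x) inferInstance (by
    rintro a ⟨k, rfl⟩
    change (x ^ k) ^ p = 1
    rw [← zpow_natCast, ← zpow_mul, mul_comm, zpow_mul, zpow_natCast, ← hx, pow_orderOf_eq_one,
      one_zpow])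
  rw [Nat.card_zpowers, hx, pow_zero] at h1
  have := hp.out.one_lt
  omega

theorem ne_bot_of_not_pRankLE {p : ℕ} {Q : Subgroup G} (h : ¬ PRankLE p 0 ↥Q) : Q ≠ ⊥ := by
  rintro rfl
  apply h
  intro A _ _
  rw [pow_zero]
  exact Finite.card_le_one_iff_subsingleton.mpr inferInstance

theorem exists_order_p [Finite G] {p : ℕ} [hp : Fact p.Prime] {Q : Subgroup G} (hQ : IsPGroup p Q)
    (hne : Q ≠ ⊥) : ∃ x ∈ Q, orderOf x = p := by
  have hnt : Nontrivial Q := (Subgroup.nontrivial_iff_ne_bot Q).mpr hne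
  obtain ⟨x, hx⟩ : ∃ x : Q, orderOf x = p := by
    apply exists_prime_orderOf_dvd_card'
    obtain ⟨n, hn⟩ := IsPGroup.iff_card.mp hQ
    rw [hn]
    refine dvd_pow_self p ?_
    rintro rfl
    rw [pow_zero] at hn
    exact absurd hn (Finite.one_lt_card (α := Q)).ne'
  exact ⟨x, x.2, by rw [← hx]; exact Subgroup.orderOf_coe x⟩

/-- a nontrivial `p`-group has a central element of order `p` -/
theorem exists_central_order_p [Finite G] {p : ℕ} [hp : Fact p.Prime] {Q : Subgroup G} (hQ : IsPGroup p Q)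
    (hne : Q ≠ ⊥) : ∃ x ∈ Q, orderOf x = p ∧ ∀ y ∈ Q, y * x = x * y := by
  have hnt : Nontrivial Q := (Subgroup.nontrivial_iff_ne_bot Q).mpr hne
  have hc := hQ.center_nontrivial
  have h1 : IsPGroup p ↥((center Q).map Q.subtype) :=
    (hQ.to_subgroup (center Q)).map Q.subtype
  have h2 : (center Q).map Q.subtype ≠ ⊥ := by
    rw [Ne, Subgroup.map_eq_bot_iff_of_injective _ Q.subtype_injective]
    exact (Subgroup.nontrivial_iff_ne_bot _).1 hc
  obtain ⟨x, hx, hxp⟩ := exists_order_p h1 h2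
  obtain ⟨z, hz, rfl⟩ := hx
  exact ⟨z, z.2, hxp, fun y hy => congrArg Subtype.val (Subgroup.mem_center_iff.mp hz ⟨y, hy⟩)⟩

theorem normalizer_le [Finite G] {p : ℕ} [hp : Fact p.Prime] {M : Subgroup G} {P : Sylow p G}
    (h : kGeneratedCore p 1 (P : Subgroup G) ≤ M) {Q : Subgroup G} (hQ : Q ≤ P) (hne : Q ≠ ⊥) :
    Subgroup.normalizer (Q : Set G) ≤ M := by
  have hQp : IsPGroup p Q := P.isPGroup'.to_le hQ
  have hr : ¬ PRankLE p (1 - 1) ↥Q := by
    rw [show (1 - 1 : ℕ) = 0 from rfl]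
    exact not_pRankLE_zero hQp hne
  refine le_trans ?_ h
  exact le_iSup (fun Q : {Q : Subgroup G // Q ≤ (P : Subgroup G) ∧ ¬ PRankLE p (1 - 1) Q} =>
    Subgroup.normalizer ((Q : Subgroup G) : Set G)) ⟨Q, hQ, hr⟩

/-- in a strongly `p`-embedded subgroup `M`, normalizers of nontrivial `p`-subgroups of `M` are in `M` -/
theorem normalizer_le_of_stronglyP [Finite G] {p : ℕ} [hp : Fact p.Prime] {M : Subgroup G}
    (h : IsStronglyPEmbedded p M) {Q : Subgroup G} (hQM : Q ≤ M) (hQ : IsPGroup p Q) (hne : Q ≠ ⊥) :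
    Subgroup.normalizer (Q : Set G) ≤ M := by
  obtain ⟨hdvd, hM, P, hP⟩ := h
  have hPne : (P : Subgroup G) ≠ ⊥ := P.ne_bot_of_dvd_card hdvd
  have hPM : (P : Subgroup G) ≤ M := Subgroup.le_normalizer.trans (normalizer_le hP le_rfl hPne)
  -- move `Q` into `P`
  obtain ⟨S, hS⟩ := (hQ.comap_subtype (K := M)).exists_le_sylow
  obtain ⟨m, hm⟩ := MulAction.exists_smul_eq M S (P.subtype hPM)
  have hmove : ∀ q ∈ Q, (m : G) * q * (m : G)⁻¹ ∈ (P : Subgroup G) := by
    intro q hq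
    have h1 : (⟨q, hQM hq⟩ : M) ∈ (S : Subgroup M) := hS (mem_subgroupOf.2 hq)
    have h2 : m * ⟨q, hQM hq⟩ * m⁻¹ ∈ ((P.subtype hPM : Sylow p M) : Subgroup M) := by
      rw [← hm, Sylow.coe_subgroup_smul]
      exact Subgroup.mem_map.2 ⟨_, h1, rfl⟩
    rw [Sylow.coe_subtype, mem_subgroupOf] at h2
    exact h2
  set Q' : Subgroup G := Q.map (MulAut.conj (m : G)).toMonoidHom with hQ'
  have hQ'P : Q' ≤ P := by
    rintro _ ⟨q, hq, rfl⟩
    exact hmove q hq
  have hQ'ne : Q' ≠ ⊥ := by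
    rw [Ne, Subgroup.map_eq_bot_iff_of_injective _ (MulAut.conj (m : G)).injective]
    exact hne
  have h3 := normalizer_le hP hQ'P hQ'ne
  intro g hg
  have h4 : (m : G) * g * (m : G)⁻¹ ∈ M := by
    apply h3
    rw [mem_normalizer_iff]
    intro y
    constructor
    · rintro ⟨q, hq, rfl⟩
      refine ⟨g * q * g⁻¹, (mem_normalizer_iff.1 hg q).1 hq, ?_⟩
      simp [MulAut.conj_apply, mul_assoc]
    · rintro ⟨q, hq, hqy⟩
      have hg' : g⁻¹ ∈ normalizer (Q : Set G) := inv_mem hg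
      refine ⟨g⁻¹ * q * g⁻¹⁻¹, (mem_normalizer_iff.1 hg' q).1 hq, ?_⟩
      have hqy' : (m : G) * q * (m : G)⁻¹ = (m : G) * g * (m : G)⁻¹ * y * ((m : G) * g * (m : G)⁻¹)⁻¹ := hqy
      change (m : G) * (g⁻¹ * q * g⁻¹⁻¹) * (m : G)⁻¹ = y
      calc (m : G) * (g⁻¹ * q * g⁻¹⁻¹) * (m : G)⁻¹ =
          (m : G) * g⁻¹ * (m : G)⁻¹ * ((m : G) * q * (m : G)⁻¹) * ((m : G) * g⁻¹ * (m : G)⁻¹)⁻¹ := by group
        _ = y := by rw [hqy']; group
  have h5 : g = (m : G)⁻¹ * ((m : G) * g * (m : G)⁻¹) * m := by group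
  rw [h5]
  exact M.mul_mem (M.mul_mem (M.inv_mem m.2) h4) m.2

theorem zpowers_isPGroup {p : ℕ} {x : G} (hx : orderOf x = p) : IsPGroup p (zpowers x) := by
  rintro ⟨y, k, rfl⟩
  refine ⟨1, Subtype.ext ?_⟩
  change (x ^ k) ^ p ^ 1 = 1
  rw [pow_one, ← zpow_natCast, ← zpow_mul, mul_comm, zpow_mul, zpow_natCast, ← hx, pow_orderOf_eq_one,
    one_zpow]

theorem centralizer_le_normalizer_zpowers (x : G) :
    centralizer ({x} : Set G) ≤ normalizer ((zpowers x : Subgroup G) : Set G) := by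
  intro g hg
  apply Subgroup.centralizer_le_normalizer
  rw [zpowers_eq_closure, centralizer_closure]
  exact hg

theorem centralizer_le_of_stronglyP [Finite G] {p : ℕ} [hp : Fact p.Prime] {M : Subgroup G}
    (h : IsStronglyPEmbedded p M) {x : G} (hx : x ∈ M) (hxp : orderOf x = p) :
    centralizer ({x} : Set G) ≤ M := by
  refine (centralizer_le_normalizer_zpowers x).trans ?_
  refine normalizer_le_of_stronglyP h (by rwa [zpowers_le]) (zpowers_isPGroup hxp) ?_
  rw [Ne, zpowers_eq_bot]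
  rintro rfl
  rw [orderOf_one] at hxp
  exact hp.out.one_lt.ne hxp

/-- **A controlling proper subgroup is strongly `p`-embedded.** -/
theorem stronglyP_of_ctrl [Finite G] {p : ℕ} [hp : Fact p.Prime] {M : Subgroup G} (hM : M ≠ ⊤)
    (hdvd : p ∣ Nat.card M) (h : Ctrl p M) : IsStronglyPEmbedded p M := by
  obtain ⟨S⟩ : Nonempty (Sylow p M) := inferInstance
  set T : Subgroup G := (S : Subgroup M).map M.subtype with hT
  have hTM : T ≤ M := Subgroup.map_subtype_le _
  have hTp : IsPGroup p T := S.isPGroup'.map _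
  have hTne : T ≠ ⊥ := by
    rw [Ne, hT, Subgroup.map_eq_bot_iff_of_injective _ M.subtype_injective]
    exact S.ne_bot_of_dvd_card hdvd
  obtain ⟨P, hP⟩ := hTp.exists_le_sylow
  -- `P ≤ M`
  have hPne : (P : Subgroup G) ≠ ⊥ := fun hb => hTne (le_bot_iff.mp (hb ▸ hP))
  obtain ⟨t, ht, htp⟩ := exists_order_p hTp hTne
  obtain ⟨x, hx, hxp, hxc⟩ := exists_central_order_p P.isPGroup' hPne
  have hxM : x ∈ M := h t (hTM ht) htp x (by
    rw [← hxc t (hP ht), mul_assoc, mul_inv_cancel, mul_one]; exact hTM ht)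
  have hPM : (P : Subgroup G) ≤ M := by
    intro y hy
    refine h x hxM hxp y ?_
    rw [hxc y hy, mul_assoc, mul_inv_cancel, mul_one]; exact hxM
  refine ⟨hdvd.trans (Subgroup.card_subgroup_dvd_card M), hM, P, ?_⟩
  refine iSup_le ?_
  rintro ⟨Q, hQ, hQr⟩ g hg
  have hQne := ne_bot_of_not_pRankLE hQr
  obtain ⟨q, hq, hqp⟩ := exists_order_p (P.isPGroup'.to_le hQ) hQne
  exact h q (hPM (hQ hq)) hqp g (hPM (hQ ((mem_normalizer_iff.1 hg q).1 hq)))

/-- **`C_G(x) ≤ M` for all `x` of order `p` in a Sylow subgroup `S` of `M`, and `N_G(S) ≤ M`: `M` is controlling.** -/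
theorem ctrl_of_centralizers [Finite G] {p : ℕ} [hp : Fact p.Prime] {M : Subgroup G}
    (S : Sylow p M) (hc : ∀ x : G, x ∈ (S : Subgroup M).map M.subtype → orderOf x = p →
      centralizer ({x} : Set G) ≤ M)
    (hN : normalizer (((S : Subgroup M).map M.subtype : Subgroup G) : Set G) ≤ M) : Ctrl p M := by
  -- all elements of order `p` of `M`
  have hc' : ∀ x ∈ M, orderOf x = p → centralizer ({x} : Set G) ≤ M := by
    intro x hx hxp
    have hxo : IsPGroup p ↥((zpowers x).subgroupOf M) := (zpowers_isPGroup hxp).comap_subtype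
    obtain ⟨Q, hQ⟩ := hxo.exists_le_sylow
    obtain ⟨m, hm⟩ := MulAction.exists_smul_eq M Q S
    have h1 : m * ⟨x, hx⟩ * m⁻¹ ∈ (S : Subgroup M) := by
      rw [← hm, Sylow.coe_subgroup_smul]
      exact Subgroup.mem_map.2 ⟨_, hQ (mem_subgroupOf.2 (mem_zpowers x)), rfl⟩
    have h2 := hc ((m : G) * x * (m : G)⁻¹) ⟨_, h1, rfl⟩ (by
      rw [← hxp]; exact orderOf_injective (MulAut.conj (m : G)).toMonoidHom (MulAut.conj (m : G)).injective x)
    intro g hg
    rw [mem_centralizer_singleton_iff] at hg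
    have h3 : (m : G) * g * (m : G)⁻¹ ∈ M := by
      apply h2
      rw [mem_centralizer_singleton_iff]
      calc (m : G) * g * (m : G)⁻¹ * ((m : G) * x * (m : G)⁻¹) = m * (g * x) * (m : G)⁻¹ := by group
        _ = m * (x * g) * (m : G)⁻¹ := by rw [hg]
        _ = _ := by group
    have h5 : g = (m : G)⁻¹ * ((m : G) * g * (m : G)⁻¹) * m := by group
    rw [h5]
    exact M.mul_mem (M.mul_mem (M.inv_mem m.2) h3) m.2
  intro x hx hxp g hg
  -- `x ∈ M` and `x ∈ g⁻¹ M g`
  obtain ⟨Q, hQ⟩ := ((zpowers_isPGroup hxp).comap_subtype (K := M)).exists_le_sylow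
  set T : Subgroup G := (Q : Subgroup M).map M.subtype with hT
  have hTM : T ≤ M := Subgroup.map_subtype_le _
  have hTp : IsPGroup p T := Q.isPGroup'.map _
  have hxT : x ∈ T := ⟨⟨x, hx⟩, hQ (mem_subgroupOf.2 (mem_zpowers x)), rfl⟩
  have hTne : T ≠ ⊥ := by
    intro h
    rw [h, mem_bot] at hxT
    rw [hxT, orderOf_one] at hxp
    exact hp.out.one_lt.ne hxp
  obtain ⟨z, hz, hzp, hzc⟩ := exists_central_order_p hTp hTne
  have conjmem : ∀ (k y w : G), y * w = w * y → k * y * k⁻¹ ∈ M → orderOf y = p →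
      k * w * k⁻¹ ∈ M := by
    intro k y w hyw hy hyp
    have h1 := hc' (k * y * k⁻¹) hy (by
      rw [← hyp]; exact orderOf_injective (MulAut.conj k).toMonoidHom (MulAut.conj k).injective y)
    apply h1
    rw [mem_centralizer_singleton_iff]
    calc k * w * k⁻¹ * (k * y * k⁻¹) = k * (w * y) * k⁻¹ := by group
      _ = k * (y * w) * k⁻¹ := by rw [hyw]
      _ = _ := by group
  -- `g z g⁻¹ ∈ M`
  have h1 : g * z * g⁻¹ ∈ M := conjmem g x z (hzc x hxT) hg hxp
  have h2 : ∀ t ∈ T, g * t * g⁻¹ ∈ M := fun t ht => conjmem g z t (hzc t ht).symm h1 hzp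
  -- `g T g⁻¹` is a Sylow subgroup of `M`
  have hQ' : IsPGroup p ↥((T.map (MulAut.conj g).toMonoidHom).subgroupOf M) :=
    (hTp.map (MulAut.conj g).toMonoidHom).comap_subtype
  obtain ⟨R, hR⟩ := hQ'.exists_le_sylow
  have hcardT : Nat.card T = Nat.card Q := Subgroup.card_map_of_injective M.subtype_injective
  have hTgM : T.map (MulAut.conj g).toMonoidHom ≤ M := by
    rintro _ ⟨t, ht, rfl⟩
    exact h2 t ht
  have hcard : Nat.card ↥((T.map (MulAut.conj g).toMonoidHom).subgroupOf M) = Nat.card R := by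
    have e1 : Nat.card ↥((T.map (MulAut.conj g).toMonoidHom).subgroupOf M) =
        Nat.card ↥(T.map (MulAut.conj g).toMonoidHom) :=
      Nat.card_congr (Subgroup.subgroupOfEquivOfLe hTgM).toEquiv
    rw [e1, Subgroup.card_map_of_injective (MulAut.conj g).injective, hcardT,
      Sylow.card_eq_multiplicity Q, Sylow.card_eq_multiplicity R]
  have hRe : (T.map (MulAut.conj g).toMonoidHom).subgroupOf M = (R : Subgroup M) :=
    Subgroup.eq_of_le_of_card_ge hR hcard.ge
  -- conjugate in `M`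
  obtain ⟨a, ha⟩ := MulAction.exists_smul_eq M R S
  obtain ⟨b, hb⟩ := MulAction.exists_smul_eq M Q S
  -- `a g b⁻¹` normalizes the image of `S`
  have key : ∀ s : G, s ∈ (S : Subgroup M).map M.subtype →
      ((a : G) * g * (b : G)⁻¹) * s * ((a : G) * g * (b : G)⁻¹)⁻¹ ∈ (S : Subgroup M).map M.subtype := by
    rintro _ ⟨s, hs, rfl⟩
    have hs' : s ∈ (S : Subgroup M) := hs
    rw [← hb, Sylow.coe_subgroup_smul] at hs'
    obtain ⟨q, hq, hqs⟩ := Subgroup.mem_map.1 hs'
    have hqs' : (b : G) * q * (b : G)⁻¹ = s := congrArg Subtype.val hqs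
    have hqT : (q : G) ∈ T := ⟨q, hq, rfl⟩
    have hr : (⟨g * q * g⁻¹, h2 _ hqT⟩ : M) ∈ (R : Subgroup M) := by
      rw [← hRe, mem_subgroupOf]
      exact ⟨q, hqT, rfl⟩
    have hs2 : a * (⟨g * q * g⁻¹, h2 _ hqT⟩ : M) * a⁻¹ ∈ (S : Subgroup M) := by
      rw [← ha, Sylow.coe_subgroup_smul]
      exact Subgroup.mem_map.2 ⟨_, hr, rfl⟩
    refine ⟨_, hs2, ?_⟩
    change (a : G) * (g * q * g⁻¹) * (a : G)⁻¹ = ((a : G) * g * (b : G)⁻¹) * s * ((a : G) * g * (b : G)⁻¹)⁻¹
    rw [← hqs']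
    group
  have hnorm : (a : G) * g * (b : G)⁻¹ ∈ normalizer (((S : Subgroup M).map M.subtype : Subgroup G) : Set G) := by
    set N : Subgroup G := (S : Subgroup M).map M.subtype
    set k : G := (a : G) * g * (b : G)⁻¹
    have hle : N.map (MulAut.conj k).toMonoidHom ≤ N := by
      rintro _ ⟨s, hs, rfl⟩
      exact key s hs
    have heq : N.map (MulAut.conj k).toMonoidHom = N :=
      Subgroup.eq_of_le_of_card_ge hle (Subgroup.card_map_of_injective (MulAut.conj k).injective).ge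
    rw [mem_normalizer_iff]
    intro y
    constructor
    · exact key y
    · intro hy
      have hy' : k * y * k⁻¹ ∈ N.map (MulAut.conj k).toMonoidHom := by rw [heq]; exact hy
      obtain ⟨s, hs, hsy⟩ := hy'
      have : s = y := (MulAut.conj k).injective hsy
      rwa [← this]
  have h6 := hN hnorm
  have h7 : g = (a : G)⁻¹ * ((a : G) * g * (b : G)⁻¹) * b := by group
  rw [h7]
  exact M.mul_mem (M.mul_mem (M.inv_mem a.2) h6) b.2

end Cfsg.Agent.H240.StrongP
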