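import Mathlib
import Cfsg.Agent.Lib.CoprimeCommutator
set_option linter.all false

/-!
# Commutators of `p`-subgroups in finite groups

* `eq_bot_of_le_commutator`: `p`-subgroups `Q`, `R`, `R` normalising `Q`, `Q ≤ ⁅Q, R⁆` force `Q = 1`.
* `exists_mul_of_mem_sup`: elements of `H ⊔ K` when `K` normalises `H`.
-/

set_option autoImplicit false

namespace Cfsg.Agent.H240.CommP

open scoped commutatorElement Pointwise

variable {G : Type*} [Group G]

/-- If `K ≤ N(H)` then every element of `H ⊔ K` is `h * k`. -/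
theorem exists_mul_of_mem_sup {H K : Subgroup G} (hHK : K ≤ Subgroup.normalizer (H : Set G)) {x : G}
    (hx : x ∈ H ⊔ K) : ∃ h ∈ H, ∃ k ∈ K, h * k = x := by
  have h1 : ((H ⊔ K : Subgroup G) : Set G) = (H : Set G) * (K : Set G) :=
    Subgroup.coe_mul_of_right_le_normalizer_left H K hHK
  have h2 : x ∈ ((H ⊔ K : Subgroup G) : Set G) := hx
  rw [h1] at h2
  obtain ⟨h, hh, k, hk, he⟩ := h2
  exact ⟨h, hh, k, hk, he⟩

/-- `p`-subgroups `Q`, `R` with `R` normalising `Q` and `Q ≤ ⁅Q, R⁆`: then `Q = 1`. -/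
theorem eq_bot_of_le_commutator [Finite G] {p : ℕ} [Fact p.Prime] {Q R : Subgroup G} (hQ : IsPGroup p Q)
    (hR : IsPGroup p R) (hRQ : R ≤ Subgroup.normalizer (Q : Set G)) (h : Q ≤ ⁅Q, R⁆) : Q = ⊥ := by
  have hT : IsPGroup p ((R ⊔ Q : Subgroup G)) := IsPGroup.to_sup_of_normal_right' hR hQ hRQ
  set T : Subgroup G := R ⊔ Q with hTdef
  have hnil : Group.IsNilpotent T := hT.isNilpotent
  obtain ⟨n, hn⟩ := (Subgroup.isNilpotent_iff_lowerCentralSeries T).mp hnil
  have hQT : Q ≤ T := le_sup_right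
  have hRT : R ≤ T := le_sup_left
  have hkey : ∀ m : ℕ, Q ≤ T.lowerCentralSeries m := by
    intro m
    induction m with
    | zero => exact hQT
    | succ m ih =>
      rw [Subgroup.lowerCentralSeries_succ]
      exact h.trans (Subgroup.commutator_mono ih hRT)
  have h1 := hkey n
  rw [hn] at h1
  exact le_bot_iff.mp h1

end Cfsg.Agent.H240.CommP
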