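import Cfsg.Agent.H240.HexZ
import Cfsg.Agent.H121.TwD4
import Cfsg.Agent.OddTab.D4Short
import Cfsg.Agent.S1067
import Cfsg.Agent.SignalizersComponents.SLQuasisimple
import Cfsg.Agent.H42.Tw.F4Three
import Mathlib
import Cfsg.Agent.H120.GThreeF
import Cfsg.Agent.FastGrp
import Cfsg.Agent.Prune
set_option linter.all false

section
prune_inst 0x7ff3fffbbff8bfffffff7e7ffedddffffffdffffffffffcbfff8e7ffafdf6b0efde52bad1feb5afd1ff662be30f87bd3fffffeffef6bdc7ffffd5ff4dffbffdfffffbf8d71ffacbe0f7e0ff793f07fce7f3fffffffffffffffffffffffffffbeffffffffffff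

-- part: H240/TwD4Z
section
prune_inst 0xc00000000400000000000000000000002000000000030000210000000000000005000600001022001000000040000000000000000010000000008000000000000402000000000000060000809800000000000000000000000000000000000000000000000
set_option linter.all false
open scoped Cfsg.Agent.FastGrp

/-!
# `³D₄(q)`: the centre of a Sylow `p`-subgroup commutes with `SL₂(q³)` (helper240)

* `center` : an element of `U` commuting with `U` is `x₂₃(t)`;
* `td4` : for `z ≠ 1` in the centre of a Sylow `p`-subgroup of `³D₄(q)`, `p ∣ q`, a nontrivial perfect subgroup centralises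
  `z`.
-/

set_option autoImplicit false

namespace Cfsg.Agent.H240.TwD4Z

open Subgroup Cfsg Cfsg.Lie Cfsg.Agent.ChevalleyStructure Cfsg.Agent.ChevalleyStructure.D4Comm
open Cfsg.Agent.ChevalleyStructure.D4U Cfsg.Agent.ChevalleyStructure.D4NConj
open Cfsg.Agent.ChevalleyStructure.D4Fixed (fix mem_fix twisted_le_fix)
open Cfsg.Agent.Hexagon.TwD4Rel
open Cfsg.Agent.OddTab.D4Short (psi psi_up psi_lo psi_mem comm_x)
open Cfsg.Agent.Nodes.RGDTwD4 (xG_eq)

section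

variable {K : Type*} [Field K] (φ : K →+* K) (σ : K ≃+* K) (hσ : ∀ x, σ x = φ x)

end

/-- the elements `x₂₃(t)` commute with the short root `SL₂(K)` -/
theorem comm_psi {K : Type} [Field K] (φ : K →+* K) (t : K) (g : Matrix.SpecialLinearGroup (Fin 2) K) :
    xG 23 t * psi φ g = psi φ g * xG 23 t := by
  have hc : ∀ r : ℕ, r < 24 → 23 ≠ r → 23 ≠ chevD4.neg r → chevD4.commTerms r 23 = [] → ∀ u : K,
      xG 23 t * xG r u = xG r u * xG 23 t := by
    intro r hr h1 h2 h4 u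
    have := comm_x (K := K) hr (by norm_num) h1 h2 h4 u t
    rw [xG_eq] at this
    exact this
  have h1 : ∀ r ∈ [18, 13, 12, 5, 10, 11], ∀ u : K, xG 23 t * xG r u = xG r u * xG 23 t := by
    intro r hr u
    have htab : ∀ r ∈ [18, 13, 12, 5, 10, 11], r < 24 ∧ 23 ≠ r ∧ 23 ≠ chevD4.neg r ∧ chevD4.commTerms r 23 = [] := by
      decide +kernel
    obtain ⟨k1, k2, k3, k4⟩ := htab r hr
    exact hc r k1 k2 k3 k4 u
  refine Cfsg.Agent.OddHalf.LongSL.commute_range (psi φ) (fun u => ?_) (fun u => ?_) _ ⟨g, rfl⟩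
  · rw [psi_up, D4Fixed.X, xU_eq, xU_eq, xU_eq]
    have a1 := h1 18 (by simp) u
    have a2 := h1 13 (by simp) (φ u)
    have a3 := h1 12 (by simp) (φ (φ u))
    calc xG 23 t * (xG 18 u * xG 13 (φ u) * xG 12 (φ (φ u))) =
        (xG 23 t * xG 18 u) * xG 13 (φ u) * xG 12 (φ (φ u)) := by group
      _ = xG 18 u * (xG 23 t * xG 13 (φ u)) * xG 12 (φ (φ u)) := by rw [a1]; group
      _ = xG 18 u * xG 13 (φ u) * (xG 23 t * xG 12 (φ (φ u))) := by rw [a2]; group
      _ = _ := by rw [a3]; group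
  · rw [psi_lo, D4Fixed.Y, xU_eq, xU_eq, xU_eq]
    have a1 := h1 5 (by simp) u
    have a2 := h1 10 (by simp) (φ u)
    have a3 := h1 11 (by simp) (φ (φ u))
    calc xG 23 t * (xG 5 u * xG 10 (φ u) * xG 11 (φ (φ u))) =
        (xG 23 t * xG 5 u) * xG 10 (φ u) * xG 11 (φ (φ u)) := by group
      _ = xG 5 u * (xG 23 t * xG 10 (φ u)) * xG 11 (φ (φ u)) := by rw [a1]; group
      _ = xG 5 u * xG 10 (φ u) * (xG 23 t * xG 11 (φ (φ u))) := by rw [a2]; group
      _ = _ := by rw [a3]; group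

/-- an element of order `p` centralising a Sylow `p`-subgroup lies in it -/
theorem mem_sylow {G : Type*} [Group G] {p : ℕ} [Fact p.Prime] (P : Sylow p G) {z : G} (hz : z ^ p = 1)
    (h : ∀ x ∈ P, x * z = z * x) : z ∈ P := by
  have h1 : IsPGroup p (zpowers z ⊔ (P : Subgroup G) : Subgroup G) := by
    refine IsPGroup.to_sup_of_normal_right' (H42.Tw.isPGroup_zpowers hz) P.isPGroup' ?_
    rw [zpowers_le]
    refine H42.Tw.mem_normalizer_of' (fun w hw => ?_) (fun w hw => ?_)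
    · rw [← h w hw, mul_inv_cancel_right]
      exact hw
    · rw [mul_assoc, h w hw, inv_mul_cancel_left]
      exact hw
  have h2 := P.is_maximal' h1 le_sup_right
  rw [← SetLike.mem_coe]
  show z ∈ (P : Subgroup G)
  rw [← h2]
  exact mem_sup_left (mem_zpowers z)

end Cfsg.Agent.H240.TwD4Z
end

-- part: H240/GThreeC
section
prune_inst 0x400000000000018001220000000000000000000000010800102004610002804080040000800000000400000000000100000420000000a000000000000000000000000000108000086000000000000000000000000000000000000041000000000000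
set_option linter.all false
open scoped Cfsg.Agent.FastGrp

-- part: H240/GThree
section
/-!
# The Sylow `3`-subgroup of `G₂(3)` (helper240)

`Sys X` : the relations of the root elements of `G₂(3)`, `X : ZMod 12 → ZMod 3 → G`.

* `NF_mul` : the multiplication of the normal forms `X₀ X₅ X₄ X₂ X₁ X₃`;
* `exists_conj` : a commutative subgroup of exponent `3` of `U` with more than 27 elements is conjugate into
  `V = X₁ X₂ X₃ X₄`;
* `center` : the centre of `U` is `X₂ X₃`;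
* `fuse` : fusion in `V`.
-/

set_option autoImplicit false
set_option linter.unusedSectionVars false

namespace Cfsg.Agent.H240.GThree

open Subgroup
open Cfsg.Agent.H120.Hx (cmm3 ci cj)

/-- the coordinates `(b, a, c, d, e, f)` -/
abbrev T6 := ZMod 3 × ZMod 3 × ZMod 3 × ZMod 3 × ZMod 3 × ZMod 3

/-- the product -/
def mul : T6 → T6 → T6
  | (b, a, c, d, e, f), (b', a', c', d', e', f') =>
    (b + b', a + a', c + c' + b' * a, d + d' - b' * c + b' ^ 2 * a, e + e' - b' ^ 3 * a,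
      f + f' - b' ^ 3 * a ^ 2 - a' * (e - b' ^ 3 * a))

/-- the relations of the root elements of `G₂(3)` -/
structure Sys {G : Type*} [Group G] (X : ZMod 12 → ZMod 3 → G) : Prop where
  zero : ∀ k, X k 0 = 1
  add : ∀ k a b, X k (a + b) = X k a * X k b
  comm : ∀ i j, cmm3 i j = true → ∀ a b, X i a * X j b = X j b * X i a
  r04 : ∀ a b, X 4 b * X 0 a = X 0 a * X 4 b * X 2 (-(a * b))
  r15 : ∀ a b, X 5 b * X 1 a = X 1 a * X 5 b * X 3 (a * b)
  r05 : ∀ t u, X 5 u * X 0 t = X 0 t * X 5 u * (X 4 (t * u) * X 2 (t ^ 2 * u) * X 1 (-(t ^ 3 * u)) *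
    X 3 (-(t ^ 3 * u ^ 2)))
  ref0 : ∃ n : G, ∀ k, ∃ e : ZMod 3, e ≠ 0 ∧ ∀ t, n * X k t = X (6 - k) (e * t) * n
  ref5 : ∃ n : G, ∀ k, ∃ e : ZMod 3, e ≠ 0 ∧ ∀ t, n * X k t = X (4 - k) (e * t) * n
  tor : ∀ a b : ZMod 3, a ≠ 0 → b ≠ 0 → ∃ h : G, ∀ k t, h * X k t = X k (a ^ ci k * b ^ cj k * t) * h

variable {G : Type*} [Group G] (X : ZMod 12 → ZMod 3 → G)

/-- the elements of `V` -/
def NV (c d e f : ZMod 3) : G := X 4 c * X 2 d * X 1 e * X 3 f

/-- the normal form -/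
def NF : T6 → G
  | (b, a, c, d, e, f) => X 0 b * X 5 a * NV X c d e f

variable {X} (H : Sys X)

include H

theorem cm (i j : ZMod 12) (h : cmm3 i j = true) (a b : ZMod 3) : X i a * X j b = X j b * X i a := H.comm i j h a b

/-- `V` is commutative -/
theorem NV_mul (c d e f c' d' e' f' : ZMod 3) :
    NV X c d e f * NV X c' d' e' f' = NV X (c + c') (d + d') (e + e') (f + f') := by
  unfold NV
  rw [H.add, H.add, H.add, H.add]
  calc X 4 c * X 2 d * X 1 e * X 3 f * (X 4 c' * X 2 d' * X 1 e' * X 3 f')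
      = X 4 c * X 2 d * X 1 e * (X 3 f * X 4 c') * X 2 d' * X 1 e' * X 3 f' := by group
    _ = X 4 c * X 2 d * (X 1 e * X 4 c') * (X 3 f * X 2 d') * X 1 e' * X 3 f' := by
      rw [cm H 3 4 (by decide)]; group
    _ = X 4 c * (X 2 d * X 4 c') * (X 1 e * X 2 d') * (X 3 f * X 1 e') * X 3 f' := by
      rw [cm H 1 4 (by decide), cm H 3 2 (by decide)]; group
    _ = X 4 c * X 4 c' * (X 2 d * X 2 d') * (X 1 e * X 1 e') * (X 3 f * X 3 f') := by
      rw [cm H 2 4 (by decide), cm H 1 2 (by decide), cm H 3 1 (by decide)]; group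

theorem NV_zero : NV X 0 0 0 0 = 1 := by
  unfold NV
  rw [H.zero, H.zero, H.zero, H.zero]
  group

/-- moving `X₀` to the left -/
theorem NV_zero_mul (c d e f b : ZMod 3) : NV X c d e f * X 0 b = X 0 b * NV X c (d - b * c) e f := by
  unfold NV
  calc X 4 c * X 2 d * X 1 e * X 3 f * X 0 b = X 4 c * X 2 d * X 1 e * (X 3 f * X 0 b) := by group
    _ = X 4 c * X 2 d * (X 1 e * X 0 b) * X 3 f := by rw [cm H 3 0 (by decide)]; group
    _ = X 4 c * (X 2 d * X 0 b) * X 1 e * X 3 f := by rw [cm H 1 0 (by decide)]; group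
    _ = (X 4 c * X 0 b) * X 2 d * X 1 e * X 3 f := by rw [cm H 2 0 (by decide)]; group
    _ = X 0 b * X 4 c * (X 2 (-(b * c)) * X 2 d) * X 1 e * X 3 f := by rw [H.r04]; group
    _ = X 0 b * X 4 c * X 2 (d - b * c) * X 1 e * X 3 f := by
      rw [← H.add]
      congr 4
      ring_nf
    _ = _ := by group

/-- moving `X₅` to the left -/
theorem NV_five_mul (c d e f a : ZMod 3) : NV X c d e f * X 5 a = X 5 a * NV X c d e (f - a * e) := by
  have h15 : X 1 e * X 5 a = X 5 a * X 1 e * X 3 (-(a * e)) := by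
    have h1 : X 1 e * X 5 a = X 5 a * X 1 e * (X 3 (e * a))⁻¹ := by rw [H.r15]; group
    have h2 : (X 3 (e * a))⁻¹ = X 3 (-(a * e)) := by
      rw [inv_eq_iff_mul_eq_one, ← H.add]
      have : e * a + -(a * e) = 0 := by ring
      rw [this, H.zero]
    rw [h1, h2]
  unfold NV
  calc X 4 c * X 2 d * X 1 e * X 3 f * X 5 a = X 4 c * X 2 d * X 1 e * (X 3 f * X 5 a) := by group
    _ = X 4 c * X 2 d * (X 1 e * X 5 a) * X 3 f := by rw [cm H 3 5 (by decide)]; group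
    _ = X 4 c * (X 2 d * X 5 a) * X 1 e * (X 3 (-(a * e)) * X 3 f) := by rw [h15]; group
    _ = (X 4 c * X 5 a) * X 2 d * X 1 e * (X 3 (-(a * e)) * X 3 f) := by rw [cm H 2 5 (by decide)]; group
    _ = X 5 a * X 4 c * X 2 d * X 1 e * X 3 (f - a * e) := by
      rw [cm H 4 5 (by decide), ← H.add]
      congr 2
      ring_nf
    _ = _ := by group

/-- **The multiplication of the normal forms.** -/
theorem NF_mul (u v : T6) : NF X u * NF X v = NF X (mul u v) := by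
  obtain ⟨b, a, c, d, e, f⟩ := u
  obtain ⟨b', a', c', d', e', f'⟩ := v
  have h05 : X 5 a * X 0 b' = X 0 b' * X 5 a * NV X (b' * a) (b' ^ 2 * a) (-(b' ^ 3 * a)) (-(b' ^ 3 * a ^ 2)) := H.r05 b' a
  show X 0 b * X 5 a * NV X c d e f * (X 0 b' * X 5 a' * NV X c' d' e' f') = X 0 (b + b') * X 5 (a + a') * NV X _ _ _ _
  calc X 0 b * X 5 a * NV X c d e f * (X 0 b' * X 5 a' * NV X c' d' e' f')
      = X 0 b * X 5 a * (NV X c d e f * X 0 b') * X 5 a' * NV X c' d' e' f' := by group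
    _ = X 0 b * (X 5 a * X 0 b') * NV X c (d - b' * c) e f * X 5 a' * NV X c' d' e' f' := by
      rw [NV_zero_mul H]; group
    _ = (X 0 b * X 0 b') * X 5 a * (NV X (b' * a) (b' ^ 2 * a) (-(b' ^ 3 * a)) (-(b' ^ 3 * a ^ 2)) *
        NV X c (d - b' * c) e f) * X 5 a' * NV X c' d' e' f' := by rw [h05]; group
    _ = X 0 (b + b') * X 5 a * (NV X (b' * a + c) (b' ^ 2 * a + (d - b' * c)) (-(b' ^ 3 * a) + e)
        (-(b' ^ 3 * a ^ 2) + f) * X 5 a') * NV X c' d' e' f' := by rw [← H.add, NV_mul H]; group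
    _ = X 0 (b + b') * (X 5 a * X 5 a') * (NV X (b' * a + c) (b' ^ 2 * a + (d - b' * c)) (-(b' ^ 3 * a) + e)
        (-(b' ^ 3 * a ^ 2) + f - a' * (-(b' ^ 3 * a) + e)) * NV X c' d' e' f') := by rw [NV_five_mul H]; group
    _ = _ := by
      rw [← H.add, NV_mul H]
      congr 2 <;> ring

theorem NF_zero : NF X 0 = 1 := by
  show X 0 0 * X 5 0 * NV X 0 0 0 0 = 1
  rw [NV_zero H, H.zero, H.zero, mul_one, mul_one]

omit H in
theorem cube_ne : ∀ u : T6, u.1 ≠ 0 → u.2.1 ≠ 0 → mul (mul u u) u ≠ 0 := by decide +kernel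

omit H in
theorem cen_tab (u : T6) (h1 : mul u (1, 0, 0, 0, 0, 0) = mul (1, 0, 0, 0, 0, 0) u)
    (h2 : mul u (0, 1, 0, 0, 0, 0) = mul (0, 1, 0, 0, 0, 0) u) :
    u.1 = 0 ∧ u.2.1 = 0 ∧ u.2.2.1 = 0 ∧ u.2.2.2.2.1 = 0 := by
  obtain ⟨b, a, c, d, e, f⟩ := u
  simp only [mul, Prod.mk.injEq] at h1 h2
  obtain ⟨-, -, k1, k2, -, -⟩ := h1
  obtain ⟨-, -, k3, -, -, k4⟩ := h2
  have ha : a = 0 := by linear_combination k1
  have hb : b = 0 := by linear_combination -k3
  have hc : c = 0 := by linear_combination -k2 + ha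
  have he : e = 0 := by
    subst ha hb
    linear_combination -k4
  exact ⟨hb, ha, hc, he⟩

omit H in
theorem sq_one : ∀ a : ZMod 3, a ≠ 0 → a ^ 2 = 1 := by decide

/-- the elements of `V` are normal forms -/
theorem NF_V (c d e f : ZMod 3) : NF X (0, 0, c, d, e, f) = NV X c d e f := by
  show X 0 0 * X 5 0 * NV X c d e f = _
  rw [H.zero, H.zero, one_mul, one_mul]

omit H in
/-- conjugation of normal forms -/
theorem conj_eq {g x y : G} (h : g * x = y * g) : g * x * g⁻¹ = y := by rw [h, mul_inv_cancel_right]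

/-! ### Conjugation into `V` -/

/-- the reflection `n₅` on `X₀ V` -/
theorem refl_five : ∃ n : G, ∃ e0 e4 : ZMod 3, e0 ≠ 0 ∧ e4 ≠ 0 ∧ ∀ b c d e f, ∃ d' e' f',
    n * NF X (b, 0, c, d, e, f) * n⁻¹ = NF X (e4 * c, 0, e0 * b, d', e', f') := by
  obtain ⟨n, hn⟩ := H.ref5
  obtain ⟨e0, h0, k0⟩ := hn 0
  obtain ⟨e1, h1, k1⟩ := hn 1
  obtain ⟨e2, h2, k2⟩ := hn 2
  obtain ⟨e3, h3, k3⟩ := hn 3
  obtain ⟨e4, h4, k4⟩ := hn 4
  rw [show (4 : ZMod 12) - 0 = 4 by decide] at k0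
  rw [show (4 : ZMod 12) - 1 = 3 by decide] at k1
  rw [show (4 : ZMod 12) - 2 = 2 by decide] at k2
  rw [show (4 : ZMod 12) - 3 = 1 by decide] at k3
  rw [show (4 : ZMod 12) - 4 = 0 by decide] at k4
  refine ⟨n, e0, e4, h0, h4, fun b c d e f => ⟨-(e4 * c * (e0 * b)) + e2 * d, e3 * f, e1 * e, ?_⟩⟩
  apply conj_eq
  show n * (X 0 b * X 5 0 * NV X c d e f) = X 0 (e4 * c) * X 5 0 * NV X _ _ _ _ * n
  rw [H.zero 5, mul_one, mul_one]
  have e5 : NV X (e0 * b) (-(e4 * c * (e0 * b)) + e2 * d) (e3 * f) (e1 * e) =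
      NV X (e0 * b) (0 - e4 * c * (e0 * b)) 0 0 * NV X 0 (e2 * d) (e3 * f) (e1 * e) := by
    rw [NV_mul H]
    congr 1 <;> ring
  have e6 : NV X 0 (e2 * d) (e3 * f) (e1 * e) = X 2 (e2 * d) * X 3 (e1 * e) * X 1 (e3 * f) := by
    unfold NV
    rw [H.zero, one_mul, mul_assoc, cm H 1 3 (by decide)]
    group
  have e7 : NV X (e0 * b) 0 0 0 = X 4 (e0 * b) := by
    unfold NV
    rw [H.zero, H.zero, H.zero, mul_one, mul_one, mul_one]
  rw [e5, ← mul_assoc (X 0 (e4 * c)), ← NV_zero_mul H, e6, e7]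
  unfold NV
  calc n * (X 0 b * (X 4 c * X 2 d * X 1 e * X 3 f)) = (n * X 0 b) * X 4 c * X 2 d * X 1 e * X 3 f := by group
    _ = X 4 (e0 * b) * (n * X 4 c) * X 2 d * X 1 e * X 3 f := by rw [k0]; group
    _ = X 4 (e0 * b) * X 0 (e4 * c) * (n * X 2 d) * X 1 e * X 3 f := by rw [k4]; group
    _ = X 4 (e0 * b) * X 0 (e4 * c) * X 2 (e2 * d) * (n * X 1 e) * X 3 f := by rw [k2]; group
    _ = X 4 (e0 * b) * X 0 (e4 * c) * X 2 (e2 * d) * X 3 (e1 * e) * (n * X 3 f) := by rw [k1]; group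
    _ = _ := by rw [k3]; group

/-- the reflection `n₀` on `X₅ V` -/
theorem refl_zero : ∃ n : G, ∃ e1 e5 : ZMod 3, e1 ≠ 0 ∧ e5 ≠ 0 ∧ ∀ a c d e f, ∃ c' d' f',
    n * NF X (0, a, c, d, e, f) * n⁻¹ = NF X (0, e1 * e, c', d', e5 * a, f') := by
  obtain ⟨n, hn⟩ := H.ref0
  obtain ⟨e1, h1, k1⟩ := hn 1
  obtain ⟨e2, h2, k2⟩ := hn 2
  obtain ⟨e3, h3, k3⟩ := hn 3
  obtain ⟨e4, h4, k4⟩ := hn 4
  obtain ⟨e5, h5, k5⟩ := hn 5
  rw [show (6 : ZMod 12) - 1 = 5 by decide] at k1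
  rw [show (6 : ZMod 12) - 2 = 4 by decide] at k2
  rw [show (6 : ZMod 12) - 3 = 3 by decide] at k3
  rw [show (6 : ZMod 12) - 4 = 2 by decide] at k4
  rw [show (6 : ZMod 12) - 5 = 1 by decide] at k5
  refine ⟨n, e1, e5, h1, h5, fun a c d e f => ⟨e2 * d, e4 * c, -(e1 * e * (e5 * a)) + e3 * f, ?_⟩⟩
  apply conj_eq
  show n * (X 0 0 * X 5 a * NV X c d e f) = X 0 0 * X 5 (e1 * e) * NV X _ _ _ _ * n
  rw [H.zero 0, one_mul, one_mul]
  have e6 : NV X (e2 * d) (e4 * c) (e5 * a) (-(e1 * e * (e5 * a)) + e3 * f) =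
      NV X (e2 * d) (e4 * c) (e5 * a) (0 - e1 * e * (e5 * a)) * NV X 0 0 0 (e3 * f) := by
    rw [NV_mul H]
    congr 1 <;> ring
  have e7 : NV X (e2 * d) (e4 * c) (e5 * a) 0 = X 1 (e5 * a) * X 2 (e4 * c) * X 4 (e2 * d) := by
    unfold NV
    rw [H.zero, mul_one, mul_assoc, cm H 2 1 (by decide), ← mul_assoc, cm H 4 1 (by decide), mul_assoc,
      cm H 4 2 (by decide)]
    group
  have e8 : NV X 0 0 0 (e3 * f) = X 3 (e3 * f) := by
    unfold NV
    rw [H.zero, H.zero, H.zero, one_mul, one_mul, one_mul]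
  rw [e6, ← mul_assoc (X 5 (e1 * e)), ← NV_five_mul H, e7, e8]
  unfold NV
  calc n * (X 5 a * (X 4 c * X 2 d * X 1 e * X 3 f)) = (n * X 5 a) * X 4 c * X 2 d * X 1 e * X 3 f := by group
    _ = X 1 (e5 * a) * (n * X 4 c) * X 2 d * X 1 e * X 3 f := by rw [k5]; group
    _ = X 1 (e5 * a) * X 2 (e4 * c) * (n * X 2 d) * X 1 e * X 3 f := by rw [k4]; group
    _ = X 1 (e5 * a) * X 2 (e4 * c) * X 4 (e2 * d) * (n * X 1 e) * X 3 f := by rw [k2]; group
    _ = X 1 (e5 * a) * X 2 (e4 * c) * X 4 (e2 * d) * X 5 (e1 * e) * (n * X 3 f) := by rw [k1]; group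
    _ = _ := by rw [k3]; group

theorem X_five (t : ZMod 3) : X 5 t = NF X (0, t, 0, 0, 0, 0) := by
  show _ = X 0 0 * X 5 t * NV X 0 0 0 0
  rw [NV_zero H, H.zero, one_mul, mul_one]

theorem X_zero (t : ZMod 3) : X 0 t = NF X (t, 0, 0, 0, 0, 0) := by
  show _ = X 0 t * X 5 0 * NV X 0 0 0 0
  rw [NV_zero H, H.zero, mul_one, mul_one]

theorem X_inv (k : ZMod 12) (t : ZMod 3) : (X k t)⁻¹ = X k (-t) := by
  rw [inv_eq_iff_mul_eq_one, ← H.add, add_neg_cancel, H.zero]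

/-- **A commutative subgroup of exponent three of `U` is conjugate into `V`.** -/
theorem exists_conj (hinj : Function.Injective (NF X)) {A : Subgroup G} (hA : ∀ x ∈ A, ∃ u, x = NF X u)
    (hab : ∀ x ∈ A, ∀ y ∈ A, x * y = y * x) (h3 : ∀ x ∈ A, x ^ 3 = 1) :
    ∃ g : G, ∀ x ∈ A, ∃ c d e f, g * x * g⁻¹ = NV X c d e f := by
  -- no elements with both coordinates
  have hno : ∀ u : T6, NF X u ∈ A → u.1 ≠ 0 → u.2.1 ≠ 0 → False := by
    intro u hu h1 h2
    have h4 := h3 _ hu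
    rw [pow_succ, pow_two, NF_mul H, NF_mul H, ← NF_zero H] at h4
    exact cube_ne u h1 h2 (hinj h4)
  by_cases hb : ∃ u : T6, NF X u ∈ A ∧ u.1 ≠ 0
  · -- `a = 0` on `A`
    obtain ⟨u, hu, hb⟩ := hb
    have ha : ∀ v : T6, NF X v ∈ A → v.2.1 = 0 := by
      intro v hv
      by_contra hc
      have hvb : v.1 = 0 := by
        by_contra hc'
        exact hno v hv hc' hc
      have hua : u.2.1 = 0 := by
        by_contra hc'
        exact hno u hu hb hc'
      have huv := mul_mem hu hv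
      rw [NF_mul H] at huv
      refine hno _ huv ?_ ?_
      · show u.1 + v.1 ≠ 0
        rw [hvb, add_zero]
        exact hb
      · show u.2.1 + v.2.1 ≠ 0
        rw [hua, zero_add]
        exact hc
    obtain ⟨n, e0, e4, h0, h4, hn⟩ := refl_five H
    obtain ⟨b, a, c, d, e, f⟩ := u
    have ha0 : a = 0 := ha _ hu
    subst ha0
    have hb' : b ≠ 0 := hb
    -- conjugation by `X₅`
    have hcj : ∀ b' c' d' e' f' : ZMod 3, ∃ d'' e'' f'', X 5 (-(c * b)) * NF X (b', 0, c', d', e', f') * (X 5 (-(c * b)))⁻¹ =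
        NF X (b', 0, c' - b' * (c * b), d'', e'', f'') := by
      intro b' c' d' e' f'
      rw [X_inv H, X_five H, X_five H, NF_mul H, NF_mul H]
      have h1 : (mul (mul (0, -(c * b), 0, 0, 0, 0) (b', 0, c', d', e', f')) (0, - -(c * b), 0, 0, 0, 0)).1 = b' := by
        simp only [mul]
        ring
      have h2 : (mul (mul (0, -(c * b), 0, 0, 0, 0) (b', 0, c', d', e', f')) (0, - -(c * b), 0, 0, 0, 0)).2.1 = 0 := by
        simp only [mul]
        ring
      have h3 : (mul (mul (0, -(c * b), 0, 0, 0, 0) (b', 0, c', d', e', f')) (0, - -(c * b), 0, 0, 0, 0)).2.2.1 =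
          c' - b' * (c * b) := by
        simp only [mul]
        ring
      generalize mul (mul (0, -(c * b), 0, 0, 0, 0) (b', 0, c', d', e', f')) (0, - -(c * b), 0, 0, 0, 0) = w at *
      obtain ⟨w1, w2, w3, w4, w5, w6⟩ := w
      simp only at h1 h2 h3
      subst h1 h2 h3
      exact ⟨w4, w5, w6, rfl⟩
    set g := n * X 5 (-(c * b)) with hg
    have hmain : ∀ v : T6, NF X v ∈ A → ∃ c' d' e' f', g * NF X v * g⁻¹ =
        NF X (e4 * (v.2.2.1 - v.1 * (c * b)), 0, c', d', e', f') ∧ c' = e0 * v.1 := by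
      rintro ⟨b', a', c', d', e', f'⟩ hv
      have ha' : a' = 0 := ha _ hv
      subst ha'
      obtain ⟨d1, e1, f1, h5⟩ := hcj b' c' d' e' f'
      obtain ⟨d2, e2, f2, h6⟩ := hn b' (c' - b' * (c * b)) d1 e1 f1
      refine ⟨_, d2, e2, f2, ?_, rfl⟩
      rw [← h6, ← h5, hg]
      group
    refine ⟨g, fun x hx => ?_⟩
    obtain ⟨v, rfl⟩ := hA x hx
    obtain ⟨c1, d1, e1, f1, h5, h5'⟩ := hmain v hx
    obtain ⟨c2, d2, e2, f2, h6, h6'⟩ := hmain _ hu
    -- they commute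
    have h7 : (g * NF X v * g⁻¹) * (g * NF X (b, 0, c, d, e, f) * g⁻¹) =
        (g * NF X (b, 0, c, d, e, f) * g⁻¹) * (g * NF X v * g⁻¹) := by
      have := hab _ hx _ hu
      calc (g * NF X v * g⁻¹) * (g * NF X (b, 0, c, d, e, f) * g⁻¹) = g * (NF X v * NF X (b, 0, c, d, e, f)) * g⁻¹ := by
            group
        _ = g * (NF X (b, 0, c, d, e, f) * NF X v) * g⁻¹ := by rw [this]
        _ = _ := by group
    have h8 : c - b * (c * b) = 0 := by
      have : c - b * (c * b) = c * (1 - b ^ 2) := by ring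
      rw [this, sq_one b hb', sub_self, mul_zero]
    have h6'' : g * NF X (b, 0, c, d, e, f) * g⁻¹ = NF X (0, 0, c2, d2, e2, f2) := by
      rw [h6]
      congr 2
      show e4 * (c - b * (c * b)) = 0
      rw [h8, mul_zero]
    rw [h6'', h5, NF_mul H, NF_mul H] at h7
    have h9 := congrArg (fun w : T6 => w.2.2.2.1) (hinj h7)
    simp only [mul] at h9
    have hc2 : c2 ≠ 0 := by rw [h6']; exact mul_ne_zero h0 hb'
    have h10 : e4 * (v.2.2.1 - v.1 * (c * b)) = 0 := by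
      have h11 : e4 * (v.2.2.1 - v.1 * (c * b)) * c2 = 0 := by linear_combination h9
      exact (mul_eq_zero.1 h11).resolve_right hc2
    rw [h10, NF_V H] at h5
    exact ⟨_, _, _, _, h5⟩
  · push Not at hb
    by_cases ha : ∃ u : T6, NF X u ∈ A ∧ u.2.1 ≠ 0
    · obtain ⟨u, hu, ha⟩ := ha
      obtain ⟨n, e1, e5, h1, h5, hn⟩ := refl_zero H
      obtain ⟨b, a, c, d, e, f⟩ := u
      have hb0 : b = 0 := hb _ hu
      subst hb0
      have ha' : a ≠ 0 := ha
      -- conjugation by `X₀`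
      have hcj : ∀ a' c' d' e' f' : ZMod 3, ∃ c'' d'' f'',
          X 0 (-(e * a)) * NF X (0, a', c', d', e', f') * (X 0 (-(e * a)))⁻¹ =
            NF X (0, a', c'', d'', e' - (e * a) ^ 3 * a', f'') := by
        intro a' c' d' e' f'
        rw [X_inv H, X_zero H, X_zero H, NF_mul H, NF_mul H]
        have h1 : (mul (mul (-(e * a), 0, 0, 0, 0, 0) (0, a', c', d', e', f')) (- -(e * a), 0, 0, 0, 0, 0)).1 = 0 := by
          simp only [mul]
          ring
        have h2 : (mul (mul (-(e * a), 0, 0, 0, 0, 0) (0, a', c', d', e', f')) (- -(e * a), 0, 0, 0, 0, 0)).2.1 = a' := by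
          simp only [mul]
          ring
        have h3 : (mul (mul (-(e * a), 0, 0, 0, 0, 0) (0, a', c', d', e', f')) (- -(e * a), 0, 0, 0, 0, 0)).2.2.2.2.1 =
            e' - (e * a) ^ 3 * a' := by
          simp only [mul]
          ring
        generalize mul (mul (-(e * a), 0, 0, 0, 0, 0) (0, a', c', d', e', f')) (- -(e * a), 0, 0, 0, 0, 0) = w at *
        obtain ⟨w1, w2, w3, w4, w5, w6⟩ := w
        simp only at h1 h2 h3
        subst h1 h2 h3
        exact ⟨w3, w4, w6, rfl⟩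
      set g := n * X 0 (-(e * a)) with hg
      have hmain : ∀ v : T6, NF X v ∈ A → ∃ c' d' e' f', g * NF X v * g⁻¹ =
          NF X (0, e1 * (v.2.2.2.2.1 - (e * a) ^ 3 * v.2.1), c', d', e', f') ∧ e' = e5 * v.2.1 := by
        rintro ⟨b', a', c', d', e', f'⟩ hv
        have hb' : b' = 0 := hb _ hv
        subst hb'
        obtain ⟨d1, e1, f1, h6⟩ := hcj a' c' d' e' f'
        obtain ⟨d2, e2, f2, h7⟩ := hn a' d1 e1 (e' - (e * a) ^ 3 * a') f1
        refine ⟨d2, e2, _, f2, ?_, rfl⟩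
        rw [← h7, ← h6, hg]
        group
      refine ⟨g, fun x hx => ?_⟩
      obtain ⟨v, rfl⟩ := hA x hx
      obtain ⟨c1, d1, s1, f1, h6, h6'⟩ := hmain v hx
      obtain ⟨c2, d2, s2, f2, h7, h7'⟩ := hmain _ hu
      have h8 : (g * NF X v * g⁻¹) * (g * NF X (0, a, c, d, e, f) * g⁻¹) =
          (g * NF X (0, a, c, d, e, f) * g⁻¹) * (g * NF X v * g⁻¹) := by
        have := hab _ hx _ hu
        calc (g * NF X v * g⁻¹) * (g * NF X (0, a, c, d, e, f) * g⁻¹) = g * (NF X v * NF X (0, a, c, d, e, f)) * g⁻¹ := by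
              group
          _ = g * (NF X (0, a, c, d, e, f) * NF X v) * g⁻¹ := by rw [this]
          _ = _ := by group
      have h9 : e - (e * a) ^ 3 * a = 0 := by
        have : ∀ e a : ZMod 3, a ≠ 0 → e - (e * a) ^ 3 * a = 0 := by decide
        exact this e a ha'
      have h7'' : g * NF X (0, a, c, d, e, f) * g⁻¹ = NF X (0, 0, c2, d2, s2, f2) := by
        rw [h7]
        congr 3
        show e1 * (e - (e * a) ^ 3 * a) = 0
        rw [h9, mul_zero]
      rw [h7'', h6, NF_mul H, NF_mul H] at h8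
      have h10 := congrArg (fun w : T6 => w.2.2.2.2.2) (hinj h8)
      simp only [mul] at h10
      have hs2 : s2 ≠ 0 := by rw [h7']; exact mul_ne_zero h5 ha'
      have h11 : e1 * (v.2.2.2.2.1 - (e * a) ^ 3 * v.2.1) = 0 := by
        have h12 : e1 * (v.2.2.2.2.1 - (e * a) ^ 3 * v.2.1) * s2 = 0 := by linear_combination h10
        exact (mul_eq_zero.1 h12).resolve_right hs2
      rw [h11, NF_V H] at h6
      exact ⟨_, _, _, _, h6⟩
    · push Not at ha
      refine ⟨1, fun x hx => ?_⟩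
      obtain ⟨⟨b, a, c, d, e, f⟩, rfl⟩ := hA x hx
      have h1 : b = 0 := hb _ hx
      have h2 : a = 0 := ha _ hx
      subst h1
      subst h2
      exact ⟨c, d, e, f, by rw [one_mul, inv_one, mul_one, NF_V H]⟩

/-- **The centre of `U`.** -/
theorem center (hinj : Function.Injective (NF X)) {u : T6} (h : ∀ v : T6, NF X u * NF X v = NF X v * NF X u) :
    ∃ d f, NF X u = NV X 0 d 0 f := by
  have h1 : ∀ v, mul u v = mul v u := fun v => hinj (by rw [← NF_mul H, ← NF_mul H, h])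
  obtain ⟨k1, k2, k3, k4⟩ := cen_tab u (h1 _) (h1 _)
  obtain ⟨b, a, c, d, e, f⟩ := u
  simp only at k1 k2 k3 k4
  subst k1 k2 k3 k4
  exact ⟨d, f, NF_V H _ _ _ _⟩

/-! ### Fusion in `V` -/

omit H in
theorem isConj_of {g x y : G} (h : g * x = y * g) : IsConj x y := isConj_iff.2 ⟨g, conj_eq h⟩

theorem move_zero (c d e f t : ZMod 3) : IsConj (NV X c d e f) (NV X c (d - t * c) e f) := by
  refine isConj_of (g := (X 0 t)⁻¹) ?_
  have h1 := NV_zero_mul H c d e f t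
  calc (X 0 t)⁻¹ * NV X c d e f = (X 0 t)⁻¹ * (NV X c d e f * X 0 t) * (X 0 t)⁻¹ := by group
    _ = _ := by rw [h1]; group

theorem move_five (c d e f t : ZMod 3) : IsConj (NV X c d e f) (NV X c d e (f - t * e)) := by
  refine isConj_of (g := (X 5 t)⁻¹) ?_
  have h1 := NV_five_mul H c d e f t
  calc (X 5 t)⁻¹ * NV X c d e f = (X 5 t)⁻¹ * (NV X c d e f * X 5 t) * (X 5 t)⁻¹ := by group
    _ = _ := by rw [h1]; group

omit H in
theorem tor_tab : ∀ a b : ZMod 3, a ≠ 0 → b ≠ 0 → a ^ ci 4 * b ^ cj 4 = a * b ∧ a ^ ci 2 * b ^ cj 2 = b ∧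
    a ^ ci 1 * b ^ cj 1 = a * b ∧ a ^ ci 3 * b ^ cj 3 = a := by
  intro a b ha hb
  have h1 : ci 4 = 1 ∧ cj 4 = 1 ∧ ci 2 = 2 ∧ cj 2 = 1 ∧ ci 1 = 3 ∧ cj 1 = 1 ∧ ci 3 = 3 ∧ cj 3 = 2 := by decide
  obtain ⟨k1, k2, k3, k4, k5, k6, k7, k8⟩ := h1
  rw [k1, k2, k3, k4, k5, k6, k7, k8]
  have h2 := sq_one a ha
  have h3 := sq_one b hb
  have h4 : a ^ (2 : ℤ) = 1 := by exact_mod_cast h2
  have h5 : b ^ (2 : ℤ) = 1 := by exact_mod_cast h3
  have h6 : a ^ (3 : ℤ) = a := by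
    have : a ^ (3 : ℤ) = a ^ 3 := by norm_cast
    rw [this]
    linear_combination a * h2
  refine ⟨by rw [zpow_one, zpow_one], by rw [h4, zpow_one, one_mul], by rw [h6, zpow_one], by rw [h6, h5, mul_one]⟩

theorem move_tor (c d e f a b : ZMod 3) (ha : a ≠ 0) (hb : b ≠ 0) :
    IsConj (NV X c d e f) (NV X (a * b * c) (b * d) (a * b * e) (a * f)) := by
  obtain ⟨h, hh⟩ := H.tor a b ha hb
  refine isConj_of (g := h) ?_
  obtain ⟨k1, k2, k3, k4⟩ := tor_tab a b ha hb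
  have h1 := hh 4 c
  have h2 := hh 2 d
  have h3 := hh 1 e
  have h4 := hh 3 f
  rw [k1] at h1
  rw [k2] at h2
  rw [k3] at h3
  rw [k4] at h4
  unfold NV
  calc h * (X 4 c * X 2 d * X 1 e * X 3 f) = (h * X 4 c) * X 2 d * X 1 e * X 3 f := by group
    _ = X 4 (a * b * c) * (h * X 2 d) * X 1 e * X 3 f := by rw [h1]; group
    _ = X 4 (a * b * c) * X 2 (b * d) * (h * X 1 e) * X 3 f := by rw [h2]; group
    _ = X 4 (a * b * c) * X 2 (b * d) * X 1 (a * b * e) * (h * X 3 f) := by rw [h3]; group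
    _ = _ := by rw [h4]; group

theorem move_ref0 : ∃ e2 e3 e4 : ZMod 3, e2 ≠ 0 ∧ e3 ≠ 0 ∧ e4 ≠ 0 ∧ ∀ c d f,
    IsConj (NV X c d 0 f) (NV X (e2 * d) (e4 * c) 0 (e3 * f)) := by
  obtain ⟨n, hn⟩ := H.ref0
  obtain ⟨e2, h2, k2⟩ := hn 2
  obtain ⟨e3, h3, k3⟩ := hn 3
  obtain ⟨e4, h4, k4⟩ := hn 4
  rw [show (6 : ZMod 12) - 2 = 4 by decide] at k2
  rw [show (6 : ZMod 12) - 3 = 3 by decide] at k3
  rw [show (6 : ZMod 12) - 4 = 2 by decide] at k4
  refine ⟨e2, e3, e4, h2, h3, h4, fun c d f => isConj_of (g := n) ?_⟩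
  unfold NV
  rw [H.zero, mul_one, mul_one]
  calc n * (X 4 c * X 2 d * X 3 f) = (n * X 4 c) * X 2 d * X 3 f := by group
    _ = X 2 (e4 * c) * (n * X 2 d) * X 3 f := by rw [k4]; group
    _ = (X 2 (e4 * c) * X 4 (e2 * d)) * (n * X 3 f) := by rw [k2]; group
    _ = _ := by rw [k3, cm H 2 4 (by decide)]; group

theorem move_ref5 : ∃ e1 e2 e3 : ZMod 3, e1 ≠ 0 ∧ e2 ≠ 0 ∧ e3 ≠ 0 ∧ ∀ d e f,
    IsConj (NV X 0 d e f) (NV X 0 (e2 * d) (e3 * f) (e1 * e)) := by
  obtain ⟨n, hn⟩ := H.ref5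
  obtain ⟨e1, h1, k1⟩ := hn 1
  obtain ⟨e2, h2, k2⟩ := hn 2
  obtain ⟨e3, h3, k3⟩ := hn 3
  rw [show (4 : ZMod 12) - 1 = 3 by decide] at k1
  rw [show (4 : ZMod 12) - 2 = 2 by decide] at k2
  rw [show (4 : ZMod 12) - 3 = 1 by decide] at k3
  refine ⟨e1, e2, e3, h1, h2, h3, fun d e f => isConj_of (g := n) ?_⟩
  unfold NV
  rw [H.zero, one_mul]
  calc n * (X 2 d * X 1 e * X 3 f) = (n * X 2 d) * X 1 e * X 3 f := by group
    _ = X 2 (e2 * d) * (n * X 1 e) * X 3 f := by rw [k2]; group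
    _ = X 2 (e2 * d) * X 3 (e1 * e) * (n * X 3 f) := by rw [k1]; group
    _ = X 2 (e2 * d) * (X 3 (e1 * e) * X 1 (e3 * f)) * n := by rw [k3]; group
    _ = _ := by rw [cm H 3 1 (by decide)]; group

omit H in
theorem solve (c d : ZMod 3) (hc : c ≠ 0) : d - (c * d) * c = 0 := by
  have := sq_one c hc
  linear_combination -d * this

omit H in
theorem mul_self (d : ZMod 3) (hd : d ≠ 0) : d * d = 1 := by rw [← sq]; exact sq_one d hd

/-- class 1 -/
theorem fuse_one (c d : ZMod 3) (h : c ≠ 0 ∨ d ≠ 0) : IsConj (NV X c d 0 0) (NV X 0 1 0 0) := by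
  have key : ∀ d : ZMod 3, d ≠ 0 → IsConj (NV X 0 d 0 0) (NV X 0 1 0 0) := by
    intro d hd
    have h1 := move_tor H 0 d 0 0 1 d one_ne_zero hd
    rwa [mul_zero, mul_zero, mul_self d hd] at h1
  by_cases hc : c = 0
  · subst hc
    exact key d (h.resolve_left (fun h => h rfl))
  · obtain ⟨e2, e3, e4, h2, h3, h4, h5⟩ := move_ref0 H
    have h6 := move_zero H c d 0 0 (c * d)
    rw [solve c d hc] at h6
    have h7 := h5 c 0 0
    rw [mul_zero, mul_zero] at h7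
    exact (h6.trans h7).trans (key _ (mul_ne_zero h4 hc))

/-- class 2 -/
theorem fuse_two (e f : ZMod 3) (h : e ≠ 0 ∨ f ≠ 0) : IsConj (NV X 0 0 e f) (NV X 0 0 0 1) := by
  have key : ∀ f : ZMod 3, f ≠ 0 → IsConj (NV X 0 0 0 f) (NV X 0 0 0 1) := by
    intro f hf
    have h1 := move_tor H 0 0 0 f f 1 hf one_ne_zero
    rwa [mul_zero, mul_zero, mul_self f hf] at h1
  by_cases he : e = 0
  · subst he
    exact key f (h.resolve_left (fun h => h rfl))
  · obtain ⟨e1, e2, e3, h1, h2, h3, h5⟩ := move_ref5 H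
    have h6 := move_five H 0 0 e f (e * f)
    rw [solve e f he] at h6
    have h7 := h5 0 e 0
    rw [mul_zero, mul_zero] at h7
    exact (h6.trans h7).trans (key _ (mul_ne_zero h1 he))

/-- class 3 -/
theorem fuse_three (c d e f : ZMod 3) (h : c ≠ 0 ∨ d ≠ 0) (h' : e ≠ 0 ∨ f ≠ 0) (h0 : c = 0 ∨ e = 0) :
    IsConj (NV X c d e f) (NV X 0 1 0 1) := by
  have key : ∀ d f : ZMod 3, d ≠ 0 → f ≠ 0 → IsConj (NV X 0 d 0 f) (NV X 0 1 0 1) := by
    intro d f hd hf
    have h1 := move_tor H 0 d 0 f f d hf hd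
    rwa [mul_zero, mul_self f hf, mul_self d hd] at h1
  by_cases hc : c = 0
  · subst hc
    have hd := h.resolve_left (fun h => h rfl)
    by_cases he : e = 0
    · subst he
      exact key d f hd (h'.resolve_left (fun h => h rfl))
    · obtain ⟨e1, e2, e3, h1, h2, h3, h5⟩ := move_ref5 H
      have h6 := move_five H 0 d e f (e * f)
      rw [solve e f he] at h6
      have h7 := h5 d e 0
      rw [mul_zero] at h7
      exact (h6.trans h7).trans (key _ _ (mul_ne_zero h2 hd) (mul_ne_zero h1 he))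
  · have he : e = 0 := h0.resolve_left hc
    subst he
    have hf := h'.resolve_left (fun h => h rfl)
    obtain ⟨e2, e3, e4, h2, h3, h4, h5⟩ := move_ref0 H
    have h6 := move_zero H c d 0 f (c * d)
    rw [solve c d hc] at h6
    have h7 := h5 c 0 f
    rw [mul_zero] at h7
    exact (h6.trans h7).trans (key _ _ (mul_ne_zero h4 hc) (mul_ne_zero h3 hf))

/-- class 4 -/
theorem fuse_four (c d e f : ZMod 3) (hc : c ≠ 0) (he : e ≠ 0) : IsConj (NV X c d e f) (NV X 1 0 (c * e) 0) := by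
  have h1 := move_zero H c d e f (c * d)
  rw [solve c d hc] at h1
  have h2 := move_five H c 0 e f (e * f)
  rw [solve e f he] at h2
  have h3 := move_tor H c 0 e 0 c 1 hc one_ne_zero
  rw [mul_zero, mul_zero, mul_one, mul_self c hc] at h3
  exact (h1.trans h2).trans h3

/-! ### The counts -/

omit H in
/-- the class function on `V` -/
def cl (b1 b2 b3 b4 b5 : Bool) (u : ZMod 3 × ZMod 3 × ZMod 3 × ZMod 3) : Bool :=
  if u.1 = 0 ∧ u.2.1 = 0 then
    if u.2.2.1 = 0 ∧ u.2.2.2 = 0 then false else b2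
  else
    if u.2.2.1 = 0 ∧ u.2.2.2 = 0 then b1 else
      if u.1 = 0 ∨ u.2.2.1 = 0 then b3 else
        if u.1 * u.2.2.1 = 1 then b4 else b5

omit H in
theorem cl_card : ∀ b1 b2 b3 b4 b5 : Bool, (Finset.univ.filter fun u => cl b1 b2 b3 b4 b5 u = true).card =
    8 * b1.toNat + 8 * b2.toNat + 28 * b3.toNat + 18 * b4.toNat + 18 * b5.toNat := by
  decide +kernel

open Classical in
theorem mem_iff {S : Set G} (hS : ∀ g, ∀ x ∈ S, g * x * g⁻¹ ∈ S) (h1 : (1 : G) ∉ S)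
    (u : ZMod 3 × ZMod 3 × ZMod 3 × ZMod 3) :
    NV X u.1 u.2.1 u.2.2.1 u.2.2.2 ∈ S ↔ cl (decide (NV X 0 1 0 0 ∈ S)) (decide (NV X 0 0 0 1 ∈ S))
      (decide (NV X 0 1 0 1 ∈ S)) (decide (NV X 1 0 1 0 ∈ S)) (decide (NV X 1 0 (-1) 0 ∈ S)) u = true := by
  have hcj : ∀ x y : G, IsConj x y → (x ∈ S ↔ y ∈ S) := by
    intro x y hxy
    obtain ⟨g, hg⟩ := isConj_iff.1 hxy
    refine ⟨fun h => ?_, fun h => ?_⟩
    · rw [← hg]
      exact hS g x h
    · have h2 := hS g⁻¹ y h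
      rw [← hg] at h2
      have h3 : g⁻¹ * (g * x * g⁻¹) * g⁻¹⁻¹ = x := by group
      rwa [h3] at h2
  obtain ⟨c, d, e, f⟩ := u
  unfold cl
  simp only
  split_ifs with k1 k2 k3 k4 k5
  · obtain ⟨rfl, rfl⟩ := k1
    obtain ⟨rfl, rfl⟩ := k2
    rw [NV_zero H]
    simpa using h1
  · obtain ⟨rfl, rfl⟩ := k1
    rw [not_and_or] at k2
    rw [hcj _ _ (fuse_two H e f k2)]
    simp
  · obtain ⟨rfl, rfl⟩ := k3
    rw [not_and_or] at k1
    rw [hcj _ _ (fuse_one H c d k1)]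
    simp
  · rw [not_and_or] at k1 k3
    rw [hcj _ _ (fuse_three H c d e f k1 k3 k4)]
    simp
  · rw [not_or] at k4
    rw [hcj _ _ (fuse_four H c d e f k4.1 k4.2), k5]
    simp
  · rw [not_or] at k4
    have : c * e = -1 := by
      have h2 : ∀ x : ZMod 3, x ≠ 0 → x ≠ 1 → x = -1 := by decide
      exact h2 _ (mul_ne_zero k4.1 k4.2) k5
    rw [hcj _ _ (fuse_four H c d e f k4.1 k4.2), this]
    simp

open Classical in
theorem count_V (hinj : Function.Injective (NF X)) {S : Set G} (hS : ∀ g, ∀ x ∈ S, g * x * g⁻¹ ∈ S) (h1 : (1 : G) ∉ S) :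
    {x | (∃ c d e f, x = NV X c d e f) ∧ x ∈ S}.ncard =
      8 * (decide (NV X 0 1 0 0 ∈ S)).toNat + 8 * (decide (NV X 0 0 0 1 ∈ S)).toNat +
      28 * (decide (NV X 0 1 0 1 ∈ S)).toNat + 18 * (decide (NV X 1 0 1 0 ∈ S)).toNat +
      18 * (decide (NV X 1 0 (-1) 0 ∈ S)).toNat := by
  rw [← cl_card]
  set φ : ZMod 3 × ZMod 3 × ZMod 3 × ZMod 3 → G := fun u => NV X u.1 u.2.1 u.2.2.1 u.2.2.2 with hφ
  have hφi : Function.Injective φ := by
    rintro ⟨c, d, e, f⟩ ⟨c', d', e', f'⟩ h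
    have h2 : NV X c d e f = NV X c' d' e' f' := h
    rw [← NF_V H, ← NF_V H] at h2
    have h3 := hinj h2
    simpa using h3
  have h2 : {x | (∃ c d e f, x = NV X c d e f) ∧ x ∈ S} = φ '' ((Finset.univ.filter fun u =>
      cl (decide (NV X 0 1 0 0 ∈ S)) (decide (NV X 0 0 0 1 ∈ S)) (decide (NV X 0 1 0 1 ∈ S))
        (decide (NV X 1 0 1 0 ∈ S)) (decide (NV X 1 0 (-1) 0 ∈ S)) u = true : Finset _) : Set _) := by
    ext x
    constructor
    · rintro ⟨⟨c, d, e, f, rfl⟩, hx⟩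
      refine ⟨(c, d, e, f), ?_, rfl⟩
      rw [Finset.coe_filter]
      exact ⟨Finset.mem_univ _, (mem_iff H hS h1 (c, d, e, f)).1 hx⟩
    · rintro ⟨u, hu, rfl⟩
      rw [Finset.coe_filter] at hu
      exact ⟨⟨_, _, _, _, rfl⟩, (mem_iff H hS h1 u).2 hu.2⟩
  rw [h2, Set.ncard_image_of_injective _ hφi, Set.ncard_coe_finset]

/-- **The counts, in `V`.** -/
theorem count_main (hinj : Function.Injective (NF X)) {A : Subgroup G} (hA : ∀ x, x ∈ A ↔ ∃ c d e f, x = NV X c d e f)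
    {S : Set G} (hS : ∀ g, ∀ x ∈ S, g * x * g⁻¹ ∈ S) (h1 : (1 : G) ∉ S) {d0 f0 : ZMod 3} (hz : NV X 0 d0 0 f0 ∈ S) :
    ((∃ Z0 : Subgroup G, Z0 ≤ A ∧ Nat.card Z0 = 9 ∧ ∀ x ∈ Z0, x ≠ 1 → x ∈ S) ∧
      {a | a ∈ A ∧ a ∈ S}.ncard ≠ 32 ∧ {a | a ∈ A ∧ a ∈ S}.ncard ≠ 48) ∨
    ({a | a ∈ A ∧ a ∈ S}.ncard = 28 ∨ {a | a ∈ A ∧ a ∈ S}.ncard = 46 ∨ {a | a ∈ A ∧ a ∈ S}.ncard = 64) := by
  classical
  have hn : {a | a ∈ A ∧ a ∈ S} = {x | (∃ c d e f, x = NV X c d e f) ∧ x ∈ S} := by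
    ext x
    exact and_congr_left' (hA x)
  rw [hn, count_V H hinj hS h1]
  have hcj : ∀ x y : G, IsConj x y → (x ∈ S ↔ y ∈ S) := by
    intro x y hxy
    obtain ⟨g, hg⟩ := isConj_iff.1 hxy
    refine ⟨fun h => ?_, fun h => ?_⟩
    · rw [← hg]
      exact hS g x h
    · have h2 := hS g⁻¹ y h
      rw [← hg] at h2
      have h3 : g⁻¹ * (g * x * g⁻¹) * g⁻¹⁻¹ = x := by group
      rwa [h3] at h2
  -- the two subgroups of order 9
  have hinj' : ∀ c d e f c' d' e' f', NV X c d e f = NV X c' d' e' f' → c = c' ∧ d = d' ∧ e = e' ∧ f = f' := by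
    intro c d e f c' d' e' f' h2
    rw [← NF_V H, ← NF_V H] at h2
    have h3 := hinj h2
    simpa using h3
  have hsub : ∀ φ : ZMod 3 × ZMod 3 → G, Function.Injective φ → (∀ u v, φ (u + v) = φ u * φ v) →
      (∀ u, φ u ∈ A) → (∀ u, u ≠ 0 → φ u ∈ S) →
      ∃ Z0 : Subgroup G, Z0 ≤ A ∧ Nat.card Z0 = 9 ∧ ∀ x ∈ Z0, x ≠ 1 → x ∈ S := by
    intro φ hφi hφm hφA hφS
    let ψ : Multiplicative (ZMod 3 × ZMod 3) →* G := MonoidHom.mk' (fun u => φ u.toAdd) (fun u v => hφm _ _)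
    have hψi : Function.Injective ψ := fun u v h => hφi h
    refine ⟨ψ.range, ?_, ?_, ?_⟩
    · rintro x ⟨u, rfl⟩
      exact hφA _
    · rw [← Nat.card_congr (MonoidHom.ofInjective hψi).toEquiv]
      show Nat.card (ZMod 3 × ZMod 3) = 9
      rw [Nat.card_eq_fintype_card]
      rfl
    · rintro x ⟨u, rfl⟩ hx
      refine hφS _ ?_
      rintro h
      apply hx
      have : u = 1 := h
      rw [this, map_one]
  by_cases k1 : NV X 0 1 0 0 ∈ S
  · left
    refine ⟨hsub (fun u => NV X u.1 u.2 0 0) ?_ ?_ ?_ ?_, ?_, ?_⟩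
    · rintro ⟨a, b⟩ ⟨c, d⟩ h
      obtain ⟨h2, h3, -, -⟩ := hinj' _ _ _ _ _ _ _ _ h
      exact Prod.ext h2 h3
    · rintro ⟨a, b⟩ ⟨c, d⟩
      show NV X (a + c) (b + d) 0 0 = NV X a b 0 0 * NV X c d 0 0
      rw [NV_mul H, add_zero]
    · rintro ⟨a, b⟩
      exact (hA _).2 ⟨_, _, _, _, rfl⟩
    · rintro ⟨a, b⟩ h
      refine (hcj _ _ (fuse_one H a b ?_)).2 k1
      by_contra hc
      rw [not_or, not_not, not_not] at hc
      exact h (Prod.ext hc.1 hc.2)
    all_goals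
      rw [decide_eq_true k1]
      generalize decide (NV X 0 0 0 1 ∈ S) = b2
      generalize decide (NV X 0 1 0 1 ∈ S) = b3
      generalize decide (NV X 1 0 1 0 ∈ S) = b4
      generalize decide (NV X 1 0 (-1) 0 ∈ S) = b5
      revert b2 b3 b4 b5
      decide
  · by_cases k2 : NV X 0 0 0 1 ∈ S
    · left
      refine ⟨hsub (fun u => NV X 0 0 u.1 u.2) ?_ ?_ ?_ ?_, ?_, ?_⟩
      · rintro ⟨a, b⟩ ⟨c, d⟩ h
        obtain ⟨-, -, h2, h3⟩ := hinj' _ _ _ _ _ _ _ _ h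
        exact Prod.ext h2 h3
      · rintro ⟨a, b⟩ ⟨c, d⟩
        show NV X 0 0 (a + c) (b + d) = NV X 0 0 a b * NV X 0 0 c d
        rw [NV_mul H, add_zero]
      · rintro ⟨a, b⟩
        exact (hA _).2 ⟨_, _, _, _, rfl⟩
      · rintro ⟨a, b⟩ h
        refine (hcj _ _ (fuse_two H a b ?_)).2 k2
        by_contra hc
        rw [not_or, not_not, not_not] at hc
        exact h (Prod.ext hc.1 hc.2)
      all_goals
        rw [decide_eq_true k2]
        generalize decide (NV X 0 1 0 0 ∈ S) = b2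
        generalize decide (NV X 0 1 0 1 ∈ S) = b3
        generalize decide (NV X 1 0 1 0 ∈ S) = b4
        generalize decide (NV X 1 0 (-1) 0 ∈ S) = b5
        revert b2 b3 b4 b5
        decide
    · right
      have k3 : NV X 0 1 0 1 ∈ S := by
        have hd0 : d0 ≠ 0 := by
          rintro rfl
          by_cases hf : f0 = 0
          · subst hf
            rw [NV_zero H] at hz
            exact h1 hz
          · exact k2 ((hcj _ _ (fuse_two H 0 f0 (Or.inr hf))).1 hz)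
        have hf0 : f0 ≠ 0 := by
          rintro rfl
          exact k1 ((hcj _ _ (fuse_one H 0 d0 (Or.inr hd0))).1 hz)
        exact (hcj _ _ (fuse_three H 0 d0 0 f0 (Or.inr hd0) (Or.inr hf0) (Or.inl rfl))).1 hz
      rw [decide_eq_false k1, decide_eq_false k2, decide_eq_true k3]
      generalize decide (NV X 1 0 1 0 ∈ S) = b4
      generalize decide (NV X 1 0 (-1) 0 ∈ S) = b5
      revert b4 b5
      decide

end Cfsg.Agent.H240.GThree
end

-- part: H240/GThreeC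
section
/-!
# The counts in `G₂(3)` (helper240)

`count` : `L ≅ G₂(3)`, `A ≤ L` commutative of exponent 3 and order 81, `z` of order 3 in the centre of a Sylow
3-subgroup, `S` a union of conjugacy classes containing `z` and not `1`: the number of elements of `A ∩ S` is not 32
or 48 and `S` contains `Z₀ \ {1}` for a subgroup `Z₀ ≤ A` of order 9, or it is 28, 46, 64.
-/

set_option autoImplicit false

namespace Cfsg.Agent.H240.GThree

open Subgroup

theorem mem_smul' {G : Type*} [Group G] {p : ℕ} {P Q : Sylow p G} {g : G} (hg : g • P = Q) (x : G) :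
    x ∈ Q ↔ g⁻¹ * x * g ∈ P := by
  rw [← hg]
  show x ∈ ((g • P : Sylow p G) : Subgroup G) ↔ _
  rw [Sylow.coe_subgroup_smul, Subgroup.mem_pointwise_smul_iff_inv_smul_mem, ← map_inv, MulAut.smul_def,
    MulAut.conj_apply, inv_inv]
  exact Iff.rfl

theorem main_abs {G : Type*} [Group G] [Finite G] {X : ZMod 12 → ZMod 3 → G} (H : Sys X)
    (hinj : Function.Injective (NF X)) (P0 : Sylow 3 G) (hP0 : ∀ x, x ∈ P0 ↔ ∃ u, x = NF X u) {A : Subgroup G}
    (hAc : Nat.card A = 81) (hab : ∀ x ∈ A, ∀ y ∈ A, x * y = y * x) (h3 : ∀ x ∈ A, x ^ 3 = 1) {z : G}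
    (hz : orderOf z = 3) (P : Sylow 3 G) (hzP : ∀ x ∈ P, x * z = z * x) {S : Set G}
    (hS : ∀ g, ∀ x ∈ S, g * x * g⁻¹ ∈ S) (hzS : z ∈ S) (h1 : (1 : G) ∉ S) :
    ((∃ Z0 : Subgroup G, Z0 ≤ A ∧ Nat.card Z0 = 9 ∧ ∀ x ∈ Z0, x ≠ 1 → x ∈ S) ∧
      {a | a ∈ A ∧ a ∈ S}.ncard ≠ 32 ∧ {a | a ∈ A ∧ a ∈ S}.ncard ≠ 48) ∨
    ({a | a ∈ A ∧ a ∈ S}.ncard = 28 ∨ {a | a ∈ A ∧ a ∈ S}.ncard = 46 ∨ {a | a ∈ A ∧ a ∈ S}.ncard = 64) := by
  have h3p : Fact (Nat.Prime 3) := ⟨by norm_num⟩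
  -- the element `z`
  obtain ⟨d0, f0, hzz⟩ : ∃ d0 f0, NV X 0 d0 0 f0 ∈ S := by
    obtain ⟨g, hg⟩ := MulAction.exists_smul_eq G P P0
    have hz' : ∀ x ∈ P0, x * (g * z * g⁻¹) = g * z * g⁻¹ * x := by
      intro x hx
      have h4 := hzP _ ((mem_smul' hg x).1 hx)
      calc x * (g * z * g⁻¹) = g * ((g⁻¹ * x * g) * z) * g⁻¹ := by group
        _ = g * (z * (g⁻¹ * x * g)) * g⁻¹ := by rw [h4]
        _ = _ := by group
    have h5 : g * z * g⁻¹ ∈ P0 := by
      refine TwD4Z.mem_sylow P0 ?_ hz'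
      rw [conj_pow, ← hz, pow_orderOf_eq_one]
      group
    obtain ⟨u, hu⟩ := (hP0 _).1 h5
    obtain ⟨d, f, hdf⟩ := center H hinj (u := u) (fun v => by
      rw [← hu]
      exact (hz' _ ((hP0 _).2 ⟨v, rfl⟩)).symm)
    refine ⟨d, f, ?_⟩
    rw [← hdf, ← hu]
    exact hS g z hzS
  -- the group `A`
  obtain ⟨h, hh⟩ : ∃ h : G, ∀ x ∈ A, ∃ c d e f, h * x * h⁻¹ = NV X c d e f := by
    have hAp : IsPGroup 3 A := IsPGroup.of_card (n := 4) (by rw [hAc]; norm_num)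
    obtain ⟨Q, hQ⟩ := hAp.exists_le_sylow
    obtain ⟨g, hg⟩ := MulAction.exists_smul_eq G Q P0
    have hA1 : ∀ x ∈ A.map (MulAut.conj g).toMonoidHom, ∃ u, x = NF X u := by
      rintro x ⟨y, hy, rfl⟩
      refine (hP0 _).1 ((mem_smul' hg _).2 ?_)
      have h6 : g⁻¹ * ((MulAut.conj g).toMonoidHom y) * g = y := by
        show g⁻¹ * (g * y * g⁻¹) * g = y
        group
      rw [h6]
      exact hQ hy
    obtain ⟨g1, hg1⟩ := exists_conj H hinj hA1 (by
      rintro x ⟨y, hy, rfl⟩ x' ⟨y', hy', rfl⟩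
      rw [← map_mul, ← map_mul, hab y hy y' hy']) (by
      rintro x ⟨y, hy, rfl⟩
      rw [← map_pow, h3 y hy, map_one])
    refine ⟨g1 * g, fun x hx => ?_⟩
    obtain ⟨c, d, e, f, h6⟩ := hg1 _ ⟨x, hx, rfl⟩
    refine ⟨c, d, e, f, ?_⟩
    rw [← h6]
    show _ = g1 * (g * x * g⁻¹) * g1⁻¹
    group
  set φ : ZMod 3 × ZMod 3 × ZMod 3 × ZMod 3 → G := fun u => NV X u.1 u.2.1 u.2.2.1 u.2.2.2 with hφ
  have hφi : Function.Injective φ := by
    rintro ⟨c, d, e, f⟩ ⟨c', d', e', f'⟩ h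
    have h2 : NV X c d e f = NV X c' d' e' f' := h
    rw [← NF_V H, ← NF_V H] at h2
    have h3 := hinj h2
    simpa using h3
  set B := A.map (MulAut.conj h).toMonoidHom with hB
  have hBc : Nat.card B = 81 := by
    rw [← hAc]
    exact (Nat.card_congr (A.equivMapOfInjective _ (MulAut.conj h).injective).toEquiv).symm
  have hBV : (B : Set G) = Set.range φ := by
    apply Set.eq_of_subset_of_ncard_le
    · rintro x ⟨y, hy, rfl⟩
      obtain ⟨c, d, e, f, h6⟩ := hh y hy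
      exact ⟨(c, d, e, f), h6.symm⟩
    · have h6 : (Set.range φ).ncard = 81 := by
        rw [← Set.image_univ, Set.ncard_image_of_injective _ hφi, Set.ncard_univ, Nat.card_eq_fintype_card]
        rfl
      rw [h6, ← Nat.card_coe_set_eq]
      exact hBc.ge
    · exact Set.toFinite _
  have hB' : ∀ x, x ∈ B ↔ ∃ c d e f, x = NV X c d e f := by
    intro x
    rw [← SetLike.mem_coe, hBV]
    constructor
    · rintro ⟨⟨c, d, e, f⟩, rfl⟩
      exact ⟨_, _, _, _, rfl⟩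
    · rintro ⟨c, d, e, f, rfl⟩
      exact ⟨(c, d, e, f), rfl⟩
  have hmain := count_main H hinj hB' hS h1 hzz
  have hnc : {a | a ∈ B ∧ a ∈ S}.ncard = {a | a ∈ A ∧ a ∈ S}.ncard := by
    have h7 : {a | a ∈ B ∧ a ∈ S} = (MulAut.conj h) '' {a | a ∈ A ∧ a ∈ S} := by
      ext x
      constructor
      · rintro ⟨⟨y, hy, rfl⟩, hx⟩
        refine ⟨y, ⟨hy, ?_⟩, rfl⟩
        have h8 := hS h⁻¹ _ hx
        have h9 : h⁻¹ * (h * y * h⁻¹) * h⁻¹⁻¹ = y := by group
        have h10 : h⁻¹ * ((MulAut.conj h).toMonoidHom y) * h⁻¹⁻¹ = y := h9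
        rwa [h10] at h8
      · rintro ⟨y, ⟨hy, hy'⟩, rfl⟩
        exact ⟨⟨y, hy, rfl⟩, hS h y hy'⟩
    rw [h7, Set.ncard_image_of_injective _ (MulAut.conj h).injective]
  rw [hnc] at hmain
  rcases hmain with ⟨⟨Z0, hZ0, hZc, hZS⟩, h6⟩ | h6
  · left
    refine ⟨⟨Z0.map (MulAut.conj h⁻¹).toMonoidHom, ?_, ?_, ?_⟩, h6⟩
    · rintro x ⟨y, hy, rfl⟩
      obtain ⟨w, hw, rfl⟩ := hZ0 hy
      have h9 : h⁻¹ * (h * w * h⁻¹) * h⁻¹⁻¹ = w := by group
      have h10 : (MulAut.conj h⁻¹).toMonoidHom ((MulAut.conj h).toMonoidHom w) = w := h9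
      rw [h10]
      exact hw
    · rw [← hZc]
      exact (Nat.card_congr (Z0.equivMapOfInjective _ (MulAut.conj h⁻¹).injective).toEquiv).symm
    · rintro x ⟨y, hy, rfl⟩ hx
      refine hS h⁻¹ y (hZS y hy ?_)
      rintro rfl
      exact hx (map_one _)
  · right
    exact h6

/-! ### The group `G₂(3)` -/

open Cfsg.Lie Cfsg.Agent.H120 Cfsg.Agent.H120.Hx Cfsg.Agent.H120.GTwo
open Cfsg.Agent.ChevalleyStructure.G2N (xG coe_xG xG_add xG_zero)
open Cfsg.Agent.ChevalleyStructure.WordCheck (PExpr)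

section concrete

variable {F : Type*} [Field F] [Fintype F]

theorem sys (ι : ZMod 3 ≃+* F) : Sys (fun k t => (XX k (ι t) : ↥(chevG2.group F))) where
  zero k := by
    rw [map_zero]
    exact hexa.zero k
  add k a b := by
    rw [map_add]
    exact hexa.add k _ _
  comm i j h a b := by
    have h3 : (3 : F) = 0 := by
      rw [← map_ofNat ι 3, show (OfNat.ofNat 3 : ZMod 3) = 0 by decide, map_zero]
    exact (hexa3 h3).comm3 i j h _ _
  r04 a b := by
    have h3 : ((3 : ℕ) : F) = 0 := by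
      have : (3 : F) = 0 := by rw [← map_ofNat ι 3, show (OfNat.ofNat 3 : ZMod 3) = 0 by decide, map_zero]
      exact_mod_cast this
    apply Subtype.ext
    have h1 := word_of_check h3 (rho (ι a) (ι b)) (chk_rel43 0)
    rw [wG2, wG3] at h1
    have h2 : (PExpr.mul (.mul (.const (sg3 0)) va) vb).denote (rho (ι a) (ι b)) = ι (-(a * b)) := by
      have : sg3 0 = -1 := by decide
      simp only [PExpr.denote, va, vb, rho, this, map_neg, map_mul]
      push_cast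
      ring
    rw [h2] at h1
    exact h1
  r15 a b := by
    have h3 : ((3 : ℕ) : F) = 0 := by
      have : (3 : F) = 0 := by rw [← map_ofNat ι 3, show (OfNat.ofNat 3 : ZMod 3) = 0 by decide, map_zero]
      exact_mod_cast this
    apply Subtype.ext
    have h1 := word_of_check h3 (rho (ι a) (ι b)) (chk_rel43 1)
    rw [wG2, wG3] at h1
    have h2 : (PExpr.mul (.mul (.const (sg3 1)) va) vb).denote (rho (ι a) (ι b)) = ι (a * b) := by
      have : sg3 1 = 1 := by decide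
      simp only [PExpr.denote, va, vb, rho, this, map_mul]
      push_cast
      ring
    rw [h2] at h1
    exact h1
  r05 t u := by
    simp only [map_mul, map_pow, map_neg]
    exact (hexa (K := F)).r05 (ι t) (ι u)
  ref0 := by
    refine ⟨XX 0 1 * XX 6 (-1) * XX 0 1, fun k => ?_⟩
    obtain ⟨e, he, h⟩ := (hexa (K := F)).ref0 k
    refine ⟨ι.symm e, fun h0 => he ?_, fun t => ?_⟩
    · rw [← ι.apply_symm_apply e, h0, map_zero]
    · rw [map_mul, ι.apply_symm_apply]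
      exact h _
  ref5 := by
    refine ⟨XX 5 1 * XX 11 (-1) * XX 5 1, fun k => ?_⟩
    obtain ⟨e, he, h⟩ := (hexa (K := F)).ref5 k
    refine ⟨ι.symm e, fun h0 => he ?_, fun t => ?_⟩
    · rw [← ι.apply_symm_apply e, h0, map_zero]
    · rw [map_mul, ι.apply_symm_apply]
      exact h _
  tor a b ha hb := by
    obtain ⟨h, hh⟩ := (hexa (K := F)).tor (ι a) (ι b) (by simpa using ha) (by simpa using hb)
    refine ⟨h, fun k t => ?_⟩
    have h1 := hh k (ι t)
    rw [h1, map_mul, map_mul, map_zpow₀, map_zpow₀]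

theorem card_T6 : Nat.card T6 = 3 ^ 6 := by
  simp [T6, Nat.card_prod]

/-- the group `U` -/
theorem exists_sylow (hF : Fintype.card F = 3) (ι : ZMod 3 ≃+* F) : ∃ P0 : Sylow 3 ↥(chevG2.group F),
    (∀ x, x ∈ P0 ↔ ∃ u, x = NF (fun k t => (XX k (ι t) : ↥(chevG2.group F))) u) ∧
    Function.Injective (NF (fun k t => (XX k (ι t) : ↥(chevG2.group F)))) := by
  have h3p : Fact (Nat.Prime 3) := ⟨by norm_num⟩
  have H := sys ι
  set Y : ZMod 12 → ZMod 3 → ↥(chevG2.group F) := fun k t => XX k (ι t) with hY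
  set U := (chevG2.posUnipotent F).subgroupOf (chevG2.group F) with hU
  have hUc : Nat.card U = 3 ^ 6 := by rw [hU, card_U, hF]
  have hfin : Finite ↥(chevG2.group F) := inferInstance
  -- the range
  have hmulr : ∀ x ∈ Set.range (NF Y), ∀ y ∈ Set.range (NF Y), x * y ∈ Set.range (NF Y) := by
    rintro x ⟨u, rfl⟩ y ⟨v, rfl⟩
    exact ⟨mul u v, (NF_mul H u v).symm⟩
  let R : Subgroup ↥(chevG2.group F) :=
    { carrier := Set.range (NF Y)
      mul_mem' := fun {x y} hx hy => hmulr x hx y hy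
      one_mem' := ⟨0, NF_zero H⟩
      inv_mem' := by
        intro x hx
        have h1 : ∀ n : ℕ, x ^ n ∈ Set.range (NF Y) := by
          intro n
          induction n with
          | zero => exact ⟨0, by rw [pow_zero]; exact NF_zero H⟩
          | succ n ih =>
            rw [pow_succ]
            exact hmulr _ ih _ hx
        have h2 : x⁻¹ = x ^ (orderOf x - 1) := by
          rw [inv_eq_iff_mul_eq_one, ← pow_succ', Nat.sub_add_cancel (orderOf_pos x), pow_orderOf_eq_one]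
        rw [h2]
        exact h1 _ }
  have hUR : U ≤ R := by
    refine le_trans U_le ?_
    rw [closure_le]
    rintro g ⟨k, hk, a, rfl⟩
    obtain ⟨t, rfl⟩ := ι.surjective a
    show XX k (ι t) ∈ Set.range (NF Y)
    have e0 : Y 0 0 = 1 := H.zero 0
    have e1 : Y 1 0 = 1 := H.zero 1
    have e2 : Y 2 0 = 1 := H.zero 2
    have e3 : Y 3 0 = 1 := H.zero 3
    have e4 : Y 4 0 = 1 := H.zero 4
    have e5 : Y 5 0 = 1 := H.zero 5
    simp only [Set.mem_insert_iff, Set.mem_singleton_iff] at hk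
    rcases hk with rfl | rfl | rfl | rfl | rfl | rfl
    · refine ⟨(t, 0, 0, 0, 0, 0), ?_⟩
      show Y 0 t * Y 5 0 * (Y 4 0 * Y 2 0 * Y 1 0 * Y 3 0) = _
      rw [e1, e2, e3, e4, e5]
      group
      rfl
    · refine ⟨(0, 0, 0, 0, t, 0), ?_⟩
      show Y 0 0 * Y 5 0 * (Y 4 0 * Y 2 0 * Y 1 t * Y 3 0) = _
      rw [e0, e2, e3, e4, e5]
      group
      rfl
    · refine ⟨(0, 0, 0, t, 0, 0), ?_⟩
      show Y 0 0 * Y 5 0 * (Y 4 0 * Y 2 t * Y 1 0 * Y 3 0) = _
      rw [e0, e1, e3, e4, e5]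
      group
      rfl
    · refine ⟨(0, 0, 0, 0, 0, t), ?_⟩
      show Y 0 0 * Y 5 0 * (Y 4 0 * Y 2 0 * Y 1 0 * Y 3 t) = _
      rw [e0, e1, e2, e4, e5]
      group
      rfl
    · refine ⟨(0, 0, t, 0, 0, 0), ?_⟩
      show Y 0 0 * Y 5 0 * (Y 4 t * Y 2 0 * Y 1 0 * Y 3 0) = _
      rw [e0, e1, e2, e3, e5]
      group
      rfl
    · refine ⟨(0, t, 0, 0, 0, 0), ?_⟩
      show Y 0 0 * Y 5 t * (Y 4 0 * Y 2 0 * Y 1 0 * Y 3 0) = _
      rw [e0, e1, e2, e3, e4]
      group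
      rfl
  have hRc : (Set.range (NF Y)).ncard ≤ 3 ^ 6 := by
    rw [← Set.image_univ]
    refine le_trans (Set.ncard_image_le (Set.toFinite _)) ?_
    rw [Set.ncard_univ, card_T6]
  have hRU : (R : Set ↥(chevG2.group F)) = U := by
    symm
    apply Set.eq_of_subset_of_ncard_le hUR
    · rw [← Nat.card_coe_set_eq (U : Set ↥(chevG2.group F))]
      show (Set.range (NF Y)).ncard ≤ Nat.card U
      rw [hUc]
      exact hRc
  have hRc' : Nat.card (Set.range (NF Y)) = 3 ^ 6 := by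
    rw [← hUc]
    show Nat.card (R : Set ↥(chevG2.group F)) = Nat.card U
    rw [hRU]
    rfl
  refine ⟨Sylow.ofCard U ?_, fun x => ?_, ?_⟩
  · rw [hUc, Cfsg.Agent.S1059.result (F := F) rfl, hF]
    congr 1
    have h1 : (3 ^ 6 * (3 ^ 2 - 1) * (3 ^ 6 - 1) : ℕ) = 3 ^ 6 * 5824 := by norm_num
    rw [h1, Nat.factorization_mul (by norm_num) (by norm_num), Finsupp.add_apply, Nat.Prime.factorization_pow (by norm_num),
      Finsupp.single_eq_same, Nat.factorization_eq_zero_of_not_dvd (by norm_num)]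
  · show x ∈ (U : Set ↥(chevG2.group F)) ↔ _
    rw [← hRU]
    constructor
    · rintro ⟨u, rfl⟩
      exact ⟨u, rfl⟩
    · rintro ⟨u, rfl⟩
      exact ⟨u, rfl⟩
  · have h1 : Function.Bijective (Set.rangeFactorization (NF Y)) := by
      rw [Nat.bijective_iff_surjective_and_card]
      refine ⟨Set.rangeFactorization_surjective, ?_⟩
      rw [hRc', card_T6]
    intro u v h
    exact h1.1 (Subtype.ext h)

/-- **The counts in `G₂(3)`.** -/
theorem count {L : Type*} [Group L] (hF : Fintype.card F = 3) (e : L ≃* ↥(chevG2.group F)) {A : Subgroup L}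
    (hAc : Nat.card A = 81) (hab : ∀ x ∈ A, ∀ y ∈ A, x * y = y * x) (h3 : ∀ x ∈ A, x ^ 3 = 1) {z : L}
    (hz : orderOf z = 3) (P : Sylow 3 L) (hzP : ∀ x ∈ P, x * z = z * x) {S : Set L}
    (hS : ∀ g, ∀ x ∈ S, g * x * g⁻¹ ∈ S) (hzS : z ∈ S) (h1 : (1 : L) ∉ S) :
    ((∃ Z0 : Subgroup L, Z0 ≤ A ∧ Nat.card Z0 = 9 ∧ ∀ x ∈ Z0, x ≠ 1 → x ∈ S) ∧
      {a | a ∈ A ∧ a ∈ S}.ncard ≠ 32 ∧ {a | a ∈ A ∧ a ∈ S}.ncard ≠ 48) ∨
    ({a | a ∈ A ∧ a ∈ S}.ncard = 28 ∨ {a | a ∈ A ∧ a ∈ S}.ncard = 46 ∨ {a | a ∈ A ∧ a ∈ S}.ncard = 64) := by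
  have h3p : Fact (Nat.Prime 3) := ⟨by norm_num⟩
  have hfin : Finite L := Finite.of_equiv _ e.symm.toEquiv
  obtain ⟨P0, hP0, hinj⟩ := exists_sylow hF (ZMod.ringEquivOfPrime F (by norm_num) hF)
  set ι := ZMod.ringEquivOfPrime F (by norm_num) hF
  -- transport the system to `L`
  set Y : ZMod 12 → ZMod 3 → ↥(chevG2.group F) := fun k t => XX k (ι t) with hY
  have H : Sys Y := sys ι
  have H' : Sys (fun k t => e.symm (Y k t)) := by
    constructor
    · intro k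
      rw [H.zero, map_one]
    · intro k a b
      rw [H.add, map_mul]
    · intro i j h a b
      rw [← map_mul, ← map_mul, H.comm i j h]
    · intro a b
      rw [← map_mul, ← map_mul, ← map_mul, H.r04]
    · intro a b
      rw [← map_mul, ← map_mul, ← map_mul, H.r15]
    · intro a b
      simp only [← map_mul]
      rw [H.r05]
    · obtain ⟨n, hn⟩ := H.ref0
      refine ⟨e.symm n, fun k => ?_⟩
      obtain ⟨c, hc, h⟩ := hn k
      refine ⟨c, hc, fun t => ?_⟩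
      rw [← map_mul, ← map_mul, h]
    · obtain ⟨n, hn⟩ := H.ref5
      refine ⟨e.symm n, fun k => ?_⟩
      obtain ⟨c, hc, h⟩ := hn k
      refine ⟨c, hc, fun t => ?_⟩
      rw [← map_mul, ← map_mul, h]
    · intro a b ha hb
      obtain ⟨n, hn⟩ := H.tor a b ha hb
      refine ⟨e.symm n, fun k t => ?_⟩
      rw [← map_mul, ← map_mul, hn]
  have hNF : ∀ u, NF (fun k t => e.symm (Y k t)) u = e.symm (NF Y u) := by
    rintro ⟨b, a, c, d, s, f⟩
    show e.symm _ * e.symm _ * (e.symm _ * e.symm _ * e.symm _ * e.symm _) = e.symm (_ * _ * (_ * _ * _ * _))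
    simp only [map_mul]
  refine main_abs H' (fun u v h => hinj (by
    rw [hNF, hNF] at h
    exact e.symm.injective h)) (P0.comapOfInjective e.toMonoidHom e.injective (by
      intro x _
      exact ⟨e.symm x, by simp⟩)) (fun x => ?_) hAc hab h3 hz P hzP hS hzS h1
  show e x ∈ P0 ↔ _
  rw [hP0]
  refine exists_congr fun u => ?_
  rw [hNF]
  constructor
  · intro h
    rw [← h, e.symm_apply_apply]
  · rintro rfl
    rw [e.apply_symm_apply]

end concrete

end Cfsg.Agent.H240.GThree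
end

private theorem dce_5b8c9507e1a7 : _root_.True := by
  try have : _root_.True := by simp only [_root_.Cfsg.Agent.H240.GThree.mul.eq_1]
  exact _root_.True.intro
end
end
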